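import Mathlib
import Groth.Agent.S2477

/-!
# Extending the partial derivatives of a power series ring to a finite separable extension (helper88)

`P = k[[T_1, …, T_r]]`, `A` a domain, finite over `P`, with fraction field `K` separable over
`L₀ = Frac P`.  The partial derivatives `∂/∂T_i` extend to a `k`-derivation
`D : A → K^r` with `D (T_j) = e_j` whose values lie in a finitely generated `A`-submodule of `K^r`.
-/

set_option autoImplicit false
set_option linter.unusedSectionVars false

universe u

namespace Groth.Agent.Lib.Helper88.OmegaHat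

open MvPowerSeries TensorProduct

section

variable (k : Type u) [Field k] (r : ℕ)

variable (A : Type u) [CommRing A] [IsDomain A] [Algebra (MvPowerSeries (Fin r) k) A] [Algebra k A]
  [IsScalarTower k (MvPowerSeries (Fin r) k) A]
  [Module.Finite (MvPowerSeries (Fin r) k) A]
  [Algebra (FractionRing (MvPowerSeries (Fin r) k)) (FractionRing A)]
  [IsScalarTower (MvPowerSeries (Fin r) k) (FractionRing (MvPowerSeries (Fin r) k)) (FractionRing A)]
  [Algebra.IsSeparable (FractionRing (MvPowerSeries (Fin r) k)) (FractionRing A)]

local notation "P" => MvPowerSeries (Fin r) k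

local notation "K" => FractionRing A

theorem isScalarTower_k_P_K : IsScalarTower k P K := by
  refine IsScalarTower.of_algebraMap_eq (fun c => ?_)
  rw [IsScalarTower.algebraMap_apply k A K, IsScalarTower.algebraMap_apply k P A,
    ← IsScalarTower.algebraMap_apply P A K]

theorem formallyEtale_P_K : Algebra.FormallyEtale P K := by
  have h1 : Algebra.FormallyEtale P (FractionRing P) :=
    Algebra.FormallyEtale.of_isLocalization (nonZeroDivisors P)
  have h2 : Algebra.FormallyEtale (FractionRing P) K :=
    Algebra.FormallyEtale.of_isSeparable (FractionRing P) K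
  exact Algebra.FormallyEtale.comp P (FractionRing P) K

/-- the `P`-linear map `Ω[P/k] → K^r`, `ω ↦ (∂_i ω)_i` -/
noncomputable def beta0 : Ω[P⁄k] →ₗ[P] (Fin r → K) :=
  (LinearMap.pi fun i => (Algebra.linearMap P K) ∘ₗ (LinearMap.proj i)) ∘ₗ
    (Groth.Agent.S2477.Aux.Bmap k r)

theorem beta0_D (f : P) (i : Fin r) :
    beta0 k r A (KaehlerDifferential.D k P f) i = algebraMap P K (pderiv k i f) := by
  unfold beta0
  simp only [LinearMap.comp_apply, LinearMap.pi_apply, LinearMap.proj_apply,
    Algebra.linearMap_apply, Groth.Agent.S2477.Aux.Bmap_D]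

/-- the `K`-linear map `Ω[K/k] → K^r` extending the gradient -/
noncomputable def Lam : Ω[K⁄k] →ₗ[K] (Fin r → K) :=
  have := isScalarTower_k_P_K k r A
  have := formallyEtale_P_K k r A
  (LinearMap.liftBaseChange K (beta0 k r A)) ∘ₗ
    (KaehlerDifferential.tensorKaehlerEquivOfFormallyEtale k P K).symm.toLinearMap

theorem Lam_D_algebraMap (f : P) (i : Fin r) :
    Lam k r A (KaehlerDifferential.D k K (algebraMap P K f)) i = algebraMap P K (pderiv k i f) := by
  have := isScalarTower_k_P_K k r A
  have := formallyEtale_P_K k r A
  unfold Lam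
  rw [LinearMap.comp_apply, LinearEquiv.coe_coe,
    KaehlerDifferential.tensorKaehlerEquivOfFormallyEtale_symm_D_algebraMap,
    LinearMap.liftBaseChange_tmul, one_smul, beta0_D]

/-- the extended derivation `A → K^r` -/
noncomputable def DA : Derivation k A (Fin r → K) :=
  ((Lam k r A).compDer (KaehlerDifferential.D k K)).compAlgebraMap A

theorem DA_apply (a : A) : DA k r A a = Lam k r A (KaehlerDifferential.D k K (algebraMap A K a)) :=
  rfl

theorem DA_algebraMap (f : P) (i : Fin r) :
    DA k r A (algebraMap P A f) i = algebraMap P K (pderiv k i f) := by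
  rw [DA_apply, ← IsScalarTower.algebraMap_apply P A K, Lam_D_algebraMap]

theorem DA_X (j : Fin r) : DA k r A (algebraMap P A (X j)) = Pi.single j (1 : K) := by
  classical
  funext i
  rw [DA_algebraMap, pderiv_X]
  by_cases h : i = j
  · subst h
    rw [Pi.single_eq_same, Pi.single_eq_same, map_one]
  · rw [Pi.single_eq_of_ne (Ne.symm h), Pi.single_eq_of_ne h, map_zero]

/-- the values of `DA` lie in a finitely generated `A`-submodule -/
theorem exists_fg_range_DA :
    ∃ F : Submodule A (Fin r → K), F.FG ∧ (∀ a, DA k r A a ∈ F) ∧
      ∀ j, Pi.single j (1 : K) ∈ F := by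
  classical
  obtain ⟨s, hs⟩ := (Module.Finite.fg_top : (⊤ : Submodule P A).FG)
  let F : Submodule A (Fin r → K) :=
    Submodule.span A (Set.range (fun j : Fin r => Pi.single j (1 : K)) ∪ (DA k r A) '' (s : Set A))
  have hsingle : ∀ j, Pi.single j (1 : K) ∈ F := fun j =>
    Submodule.subset_span (Or.inl ⟨j, rfl⟩)
  have hP : ∀ f : P, DA k r A (algebraMap P A f) ∈ F := by
    intro f
    have h1 : DA k r A (algebraMap P A f) =
        ∑ i, algebraMap P A (pderiv k i f) • Pi.single i (1 : K) := by
      funext i
      rw [DA_algebraMap, Finset.sum_apply, Finset.sum_eq_single i]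
      · rw [Pi.smul_apply, Pi.single_eq_same, Algebra.smul_def, mul_one,
          ← IsScalarTower.algebraMap_apply]
      · intro j _ hji
        rw [Pi.smul_apply, Pi.single_apply, if_neg hji.symm, smul_zero]
      · intro h
        exact absurd (Finset.mem_univ i) h
    rw [h1]
    exact Submodule.sum_mem _ fun i _ => Submodule.smul_mem _ _ (hsingle i)
  refine ⟨F, ?_, ?_, hsingle⟩
  · exact Submodule.fg_span ((Set.finite_range _).union (s.finite_toSet.image _))
  · intro a
    have ha : a ∈ Submodule.span P (s : Set A) := by rw [hs]; trivial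
    induction ha using Submodule.span_induction with
    | mem x hx => exact Submodule.subset_span (Or.inr ⟨x, hx, rfl⟩)
    | zero => rw [map_zero]; exact F.zero_mem
    | add x y _ _ hx hy => rw [map_add]; exact F.add_mem hx hy
    | smul f x _ hx =>
      rw [Algebra.smul_def, Derivation.leibniz]
      exact F.add_mem (F.smul_mem _ hx) (F.smul_mem _ (hP f))

end

end Groth.Agent.Lib.Helper88.OmegaHat
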