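import Mathlib
import Groth.Agent.S2477
import Groth.Agent.Lib.Helper75.CompletedModules
import Groth.Agent.Lib.Helper88.OmegaHat.DerivExt

/-!
# The generic rank of the completed differentials of a finite separable extension of `k[[T]]`
(helper88)
-/

set_option autoImplicit false
set_option linter.unusedSectionVars false

universe u

namespace Groth.Agent.Lib.Helper88.OmegaHat

open MvPowerSeries TensorProduct IsLocalRing

section General

variable {R : Type u} [CommRing R] (I : Ideal R) (M : Type u) [AddCommGroup M] [Module R M]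

/-- elements of the adic completion are approximated by elements of the module -/
theorem exists_of_sub_mem (hI : I.FG) (y : AdicCompletion I M) (n : ℕ) :
    ∃ ω : M, y - AdicCompletion.of I M ω ∈ (I ^ n • ⊤ : Submodule R (AdicCompletion I M)) := by
  obtain ⟨x, hx⟩ := Submodule.mkQ_surjective _ (AdicCompletion.eval I M n y)
  refine ⟨x, ?_⟩
  rw [AdicCompletion.pow_smul_top_eq_ker_eval hI, LinearMap.mem_ker, map_sub,
    AdicCompletion.eval_of, hx, sub_self]

theorem of_mem_pow_smul_top (n : ℕ) (ω : M) (hω : ω ∈ (I ^ n • ⊤ : Submodule R M)) :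
    AdicCompletion.of I M ω ∈ (I ^ n • ⊤ : Submodule R (AdicCompletion I M)) := by
  have h1 : AdicCompletion.of I M ω ∈ Submodule.map (AdicCompletion.of I M) (I ^ n • ⊤) :=
    Submodule.mem_map_of_mem hω
  rw [Submodule.map_smul''] at h1
  exact Submodule.smul_mono le_rfl le_top h1

end General

section

variable (k : Type u) [Field k] (r : ℕ)

variable (A : Type u) [CommRing A] [IsLocalRing A] [IsNoetherianRing A]
  [Algebra (MvPowerSeries (Fin r) k) A] [Algebra k A]
  [IsScalarTower k (MvPowerSeries (Fin r) k) A]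
  [Module.Finite (MvPowerSeries (Fin r) k) A]

local notation "P" => MvPowerSeries (Fin r) k

/-- the submodule of `Ω[A/k]` spanned by the `d T_j` -/
noncomputable def Nsub : Submodule A (Ω[A⁄k]) :=
  Submodule.span A (Set.range fun j : Fin r => KaehlerDifferential.D k A (algebraMap P A (X j)))

variable [IsLocalHom (algebraMap (MvPowerSeries (Fin r) k) A)]

theorem algebraMap_mem_pow (n : ℕ) (f : P) (hf : f ∈ maximalIdeal P ^ n) :
    algebraMap P A f ∈ maximalIdeal A ^ n := by
  have h1 : algebraMap P A f ∈ (maximalIdeal P ^ n).map (algebraMap P A) :=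
    Ideal.mem_map_of_mem _ hf
  rw [Ideal.map_pow] at h1
  exact Ideal.pow_right_mono (map_maximalIdeal_le (algebraMap P A)) n h1

theorem map_mem_pow_smul_top (n : ℕ) (η : Ω[P⁄k])
    (hη : η ∈ (maximalIdeal P ^ n • ⊤ : Submodule P (Ω[P⁄k]))) :
    KaehlerDifferential.map k k P A η ∈ (maximalIdeal A ^ n • ⊤ : Submodule A (Ω[A⁄k])) := by
  induction hη using Submodule.smul_induction_on' with
  | smul f hf η' _ =>
    rw [map_smul, algebra_compatible_smul A f]
    exact Submodule.smul_mem_smul (algebraMap_mem_pow k r A n f hf) trivial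
  | add x _ y _ hx hy =>
    rw [map_add]
    exact Submodule.add_mem _ hx hy

theorem map_mem_span_add (n : ℕ) (η : Ω[P⁄k]) :
    KaehlerDifferential.map k k P A η ∈
      Nsub k r A ⊔ (maximalIdeal A ^ n • ⊤ : Submodule A (Ω[A⁄k])) := by
  have h1 := Groth.Agent.S2477.Aux.A_comp_B_congr k r n η
  have h2 := map_mem_pow_smul_top k r A n _ h1
  have h3 : KaehlerDifferential.map k k P A
      (Groth.Agent.S2477.Aux.Amap k r (Groth.Agent.S2477.Aux.Bmap k r η)) ∈ Nsub k r A := by
    rw [Groth.Agent.S2477.Aux.Amap_apply, map_sum]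
    refine Submodule.sum_mem _ fun j _ => ?_
    rw [map_smul, KaehlerDifferential.map_D, algebra_compatible_smul A]
    exact Submodule.smul_mem _ _ (Submodule.subset_span ⟨j, rfl⟩)
  have h4 : KaehlerDifferential.map k k P A η =
      KaehlerDifferential.map k k P A
        (Groth.Agent.S2477.Aux.Amap k r (Groth.Agent.S2477.Aux.Bmap k r η)) -
      KaehlerDifferential.map k k P A
        (Groth.Agent.S2477.Aux.Amap k r (Groth.Agent.S2477.Aux.Bmap k r η) - η) := by
    rw [map_sub]; abel
  rw [h4]
  exact Submodule.sub_mem _ (Submodule.mem_sup_left h3) (Submodule.mem_sup_right h2)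

theorem mapBaseChange_mem (n : ℕ) (x : A ⊗[P] Ω[P⁄k]) :
    KaehlerDifferential.mapBaseChange k P A x ∈
      Nsub k r A ⊔ (maximalIdeal A ^ n • ⊤ : Submodule A (Ω[A⁄k])) := by
  induction x using TensorProduct.induction_on with
  | zero => rw [map_zero]; exact Submodule.zero_mem _
  | tmul a η =>
    rw [KaehlerDifferential.mapBaseChange_tmul]
    exact Submodule.smul_mem _ _ (map_mem_span_add k r A n η)
  | add x y hx hy =>
    rw [map_add]
    exact Submodule.add_mem _ hx hy


include r in
/-- `Ω[A/k]` is generated modulo `𝔪` by finitely many elements -/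
theorem exists_finite_span_sup :
    ∃ T : Set (Ω[A⁄k]), T.Finite ∧ ∀ ω : Ω[A⁄k],
      ω ∈ Submodule.span A T ⊔ (maximalIdeal A • ⊤ : Submodule A (Ω[A⁄k])) := by
  classical
  obtain ⟨s, hs⟩ := (Module.Finite.fg_top : (⊤ : Submodule P A).FG)
  let T : Set (Ω[A⁄k]) :=
    (Set.range fun j : Fin r => KaehlerDifferential.D k A (algebraMap P A (X j))) ∪
      (KaehlerDifferential.D k A) '' (s : Set A)
  have hN : Nsub k r A ≤ Submodule.span A T := Submodule.span_mono Set.subset_union_left
  have hP : ∀ f : P, KaehlerDifferential.D k A (algebraMap P A f) ∈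
      Submodule.span A T ⊔ (maximalIdeal A • ⊤ : Submodule A (Ω[A⁄k])) := by
    intro f
    have h1 := map_mem_span_add k r A 1 (KaehlerDifferential.D k P f)
    rw [KaehlerDifferential.map_D, pow_one] at h1
    exact sup_le_sup_right hN _ h1
  refine ⟨T, (Set.finite_range _).union (s.finite_toSet.image _), ?_⟩
  have hD : ∀ a : A, KaehlerDifferential.D k A a ∈
      Submodule.span A T ⊔ (maximalIdeal A • ⊤ : Submodule A (Ω[A⁄k])) := by
    intro a
    have ha : a ∈ Submodule.span P (s : Set A) := by rw [hs]; trivial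
    induction ha using Submodule.span_induction with
    | mem x hx => exact Submodule.mem_sup_left (Submodule.subset_span (Or.inr ⟨x, hx, rfl⟩))
    | zero => rw [map_zero]; exact Submodule.zero_mem _
    | add x y _ _ hx hy => rw [map_add]; exact Submodule.add_mem _ hx hy
    | smul f x _ hx =>
      rw [Algebra.smul_def, Derivation.leibniz]
      exact Submodule.add_mem _ (Submodule.smul_mem _ _ hx) (Submodule.smul_mem _ _ (hP f))
  intro ω
  have hω : ω ∈ Submodule.span A (Set.range (KaehlerDifferential.D k A)) := by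
    rw [KaehlerDifferential.span_range_derivation]; trivial
  induction hω using Submodule.span_induction with
  | mem x hx =>
    obtain ⟨a, rfl⟩ := hx
    exact hD a
  | zero => exact Submodule.zero_mem _
  | add x y _ _ hx hy => exact Submodule.add_mem _ hx hy
  | smul a x _ hx => exact Submodule.smul_mem _ _ hx

include r in
theorem finite_quot : Module.Finite A
    ((Ω[A⁄k]) ⧸ (maximalIdeal A • ⊤ : Submodule A (Ω[A⁄k]))) := by
  obtain ⟨T, hT, hspan⟩ := exists_finite_span_sup k r A
  have : Module.Finite A (Submodule.span A T) := Module.Finite.span_of_finite A hT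
  refine Module.Finite.of_surjective
    ((maximalIdeal A • ⊤ : Submodule A (Ω[A⁄k])).mkQ ∘ₗ (Submodule.span A T).subtype) ?_
  intro z
  obtain ⟨ω, rfl⟩ := Submodule.mkQ_surjective _ z
  obtain ⟨y, hy, w, hw, hyw⟩ := Submodule.mem_sup.mp (hspan ω)
  refine ⟨⟨y, hy⟩, ?_⟩
  have hw0 : (maximalIdeal A • ⊤ : Submodule A (Ω[A⁄k])).mkQ w = 0 := by
    rw [Submodule.mkQ_apply]
    exact (Submodule.Quotient.mk_eq_zero _).mpr hw
  rw [LinearMap.comp_apply, Submodule.subtype_apply, ← hyw, map_add, hw0, add_zero]

variable [IsAdicComplete (maximalIdeal A) A]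

include r in
theorem finite_omegaHat : Module.Finite A (AdicCompletion (maximalIdeal A) (Ω[A⁄k])) := by
  have := finite_quot k r A
  exact Groth.Agent.Lib.Helper75.CompletedModules.finite_adicCompletion_of_finite_quot
    (maximalIdeal A) (Ω[A⁄k])


include r in
/-- closedness of the span of the `d T_j` in the completed module -/
theorem mem_span_hat_of_forall (y : AdicCompletion (maximalIdeal A) (Ω[A⁄k]))
    (hy : ∀ n : ℕ, ∃ ω : Ω[A⁄k], ω ∈ Nsub k r A ⊔ (maximalIdeal A ^ n • ⊤ : Submodule A (Ω[A⁄k])) ∧
      y - AdicCompletion.of (maximalIdeal A) (Ω[A⁄k]) ω ∈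
        (maximalIdeal A ^ n • ⊤ : Submodule A (AdicCompletion (maximalIdeal A) (Ω[A⁄k])))) :
    y ∈ Submodule.span A (Set.range fun j : Fin r =>
      AdicCompletion.of (maximalIdeal A) (Ω[A⁄k])
        (KaehlerDifferential.D k A (algebraMap P A (X j)))) := by
  have hfin := finite_omegaHat k r A
  set W : Submodule A (AdicCompletion (maximalIdeal A) (Ω[A⁄k])) :=
    Submodule.span A (Set.range fun j : Fin r =>
      AdicCompletion.of (maximalIdeal A) (Ω[A⁄k])
        (KaehlerDifferential.D k A (algebraMap P A (X j)))) with hW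
  have hH : IsHausdorff (maximalIdeal A) (AdicCompletion (maximalIdeal A) (Ω[A⁄k]) ⧸ W) :=
    inferInstance
  have hNW : ∀ ω ∈ Nsub k r A, AdicCompletion.of (maximalIdeal A) (Ω[A⁄k]) ω ∈ W := by
    intro ω hω
    have h1 : AdicCompletion.of (maximalIdeal A) (Ω[A⁄k]) ω ∈
        Submodule.map (AdicCompletion.of (maximalIdeal A) (Ω[A⁄k])) (Nsub k r A) :=
      Submodule.mem_map_of_mem hω
    rw [Nsub, Submodule.map_span, ← Set.range_comp] at h1
    exact h1
  have h0 : W.mkQ y = 0 := by
    apply hH.haus
    intro n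
    rw [SModEq.zero]
    obtain ⟨ω, hω, hyω⟩ := hy n
    obtain ⟨ω₁, hω₁, ω₂, hω₂, rfl⟩ := Submodule.mem_sup.mp hω
    have h1 : W.mkQ y = W.mkQ ((y - AdicCompletion.of (maximalIdeal A) (Ω[A⁄k]) (ω₁ + ω₂)) +
        AdicCompletion.of (maximalIdeal A) (Ω[A⁄k]) ω₂) := by
      have h2 : W.mkQ (AdicCompletion.of (maximalIdeal A) (Ω[A⁄k]) ω₁) = 0 := by
        rw [Submodule.mkQ_apply, Submodule.Quotient.mk_eq_zero]
        exact hNW ω₁ hω₁
      rw [map_add (AdicCompletion.of (maximalIdeal A) (Ω[A⁄k])), map_add, map_sub, map_add, h2]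
      abel
    rw [h1]
    have h3 : (y - AdicCompletion.of (maximalIdeal A) (Ω[A⁄k]) (ω₁ + ω₂)) +
        AdicCompletion.of (maximalIdeal A) (Ω[A⁄k]) ω₂ ∈
        (maximalIdeal A ^ n • ⊤ : Submodule A (AdicCompletion (maximalIdeal A) (Ω[A⁄k]))) :=
      Submodule.add_mem _ hyω (of_mem_pow_smul_top (maximalIdeal A) (Ω[A⁄k]) n ω₂ hω₂)
    have h4 := Submodule.mem_map_of_mem (f := W.mkQ) h3
    rwa [Submodule.map_smul'', Submodule.map_top, Submodule.range_mkQ] at h4
  rwa [Submodule.mkQ_apply, Submodule.Quotient.mk_eq_zero] at h0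


section Sep

variable [IsDomain A] [Algebra (FractionRing (MvPowerSeries (Fin r) k)) (FractionRing A)]
  [IsScalarTower (MvPowerSeries (Fin r) k) (FractionRing (MvPowerSeries (Fin r) k)) (FractionRing A)]

omit [IsLocalRing A] [IsNoetherianRing A] [Algebra k A] [IsScalarTower k (MvPowerSeries (Fin r) k) A]
  [Module.Finite (MvPowerSeries (Fin r) k) A] [IsLocalHom (algebraMap (MvPowerSeries (Fin r) k) A)]
  [IsAdicComplete (maximalIdeal A) A] in
theorem exists_ne_zero_smul_D_eq_zero (a : A) (Q : Polynomial P) (hQ : Polynomial.aeval a Q = 0)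
    (hsep : (Q.map (algebraMap P (FractionRing P))).Separable) :
    ∃ c : A, c ≠ 0 ∧ c • KaehlerDifferential.D P A a = 0 := by
  refine ⟨Polynomial.aeval a (Polynomial.derivative Q), ?_, ?_⟩
  · intro hc
    obtain ⟨u, v, huv⟩ := hsep
    have h1 := congrArg (Polynomial.aeval (algebraMap A (FractionRing A) a)) huv
    have hQ1 : Polynomial.aeval (algebraMap A (FractionRing A) a)
        (Q.map (algebraMap P (FractionRing P))) = 0 := by
      rw [Polynomial.aeval_map_algebraMap, Polynomial.aeval_algebraMap_apply, hQ, map_zero]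
    have hQ2 : Polynomial.aeval (algebraMap A (FractionRing A) a)
        (Polynomial.derivative (Q.map (algebraMap P (FractionRing P)))) = 0 := by
      rw [Polynomial.derivative_map, Polynomial.aeval_map_algebraMap,
        Polynomial.aeval_algebraMap_apply, hc, map_zero]
    rw [map_add, map_mul, map_mul, map_one, hQ1, hQ2, mul_zero, mul_zero, add_zero] at h1
    exact zero_ne_one h1
  · have h1 := Derivation.map_aeval (KaehlerDifferential.D P A) Q a
    rw [hQ, map_zero] at h1
    exact h1.symm

omit [IsLocalRing A] [IsNoetherianRing A] [Algebra k A] [IsScalarTower k (MvPowerSeries (Fin r) k) A]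
  [IsLocalHom (algebraMap (MvPowerSeries (Fin r) k) A)] [IsAdicComplete (maximalIdeal A) A] in
theorem exists_ne_zero_smul_eq_zero
    (hsep : ∀ a : A, ∃ Q : Polynomial P, Polynomial.aeval a Q = 0 ∧
      (Q.map (algebraMap P (FractionRing P))).Separable) :
    ∃ c₀ : A, c₀ ≠ 0 ∧ ∀ ω' : Ω[A⁄P], c₀ • ω' = 0 := by
  classical
  obtain ⟨s, hs⟩ := (Module.Finite.fg_top : (⊤ : Submodule P A).FG)
  have hex : ∀ a : A, ∃ c : A, c ≠ 0 ∧ c • KaehlerDifferential.D P A a = 0 := by
    intro a
    obtain ⟨Q, hQ, hQs⟩ := hsep a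
    exact exists_ne_zero_smul_D_eq_zero k r A a Q hQ hQs
  choose c hc0 hc using hex
  refine ⟨∏ a ∈ s, c a, Finset.prod_ne_zero_iff.mpr fun a _ => hc0 a, ?_⟩
  have hs' : ∀ a ∈ s, (∏ a ∈ s, c a) • KaehlerDifferential.D P A a = 0 := by
    intro a ha
    rw [← Finset.mul_prod_erase s c ha, mul_comm, mul_smul, hc a, smul_zero]
  have hD : ∀ a : A, (∏ a ∈ s, c a) • KaehlerDifferential.D P A a = 0 := by
    intro a
    have ha : a ∈ Submodule.span P (s : Set A) := by rw [hs]; trivial
    induction ha using Submodule.span_induction with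
    | mem x hx => exact hs' x hx
    | zero => rw [map_zero, smul_zero]
    | add x y _ _ hx hy => rw [map_add, smul_add, hx, hy, add_zero]
    | smul f x _ hx => rw [Derivation.map_smul, smul_comm, hx, smul_zero]
  intro ω'
  have hω : ω' ∈ Submodule.span A (Set.range (KaehlerDifferential.D P A)) := by
    rw [KaehlerDifferential.span_range_derivation]; trivial
  induction hω using Submodule.span_induction with
  | mem x hx =>
    obtain ⟨a, rfl⟩ := hx
    exact hD a
  | zero => rw [smul_zero]
  | add x y _ _ hx hy => rw [smul_add, hx, hy, add_zero]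
  | smul a x _ hx => rw [smul_comm, hx, smul_zero]

theorem exists_smul_mem_span_hat
    (hsep : ∀ a : A, ∃ Q : Polynomial P, Polynomial.aeval a Q = 0 ∧
      (Q.map (algebraMap P (FractionRing P))).Separable) :
    ∃ c₀ : A, c₀ ≠ 0 ∧ ∀ y : AdicCompletion (maximalIdeal A) (Ω[A⁄k]),
      c₀ • y ∈ Submodule.span A (Set.range fun j : Fin r =>
        AdicCompletion.of (maximalIdeal A) (Ω[A⁄k])
          (KaehlerDifferential.D k A (algebraMap P A (X j)))) := by
  obtain ⟨c₀, hc₀, hkill⟩ := exists_ne_zero_smul_eq_zero k r A hsep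
  refine ⟨c₀, hc₀, fun y => ?_⟩
  have hmfg : (maximalIdeal A).FG := (isNoetherianRing_iff_ideal_fg A).mp inferInstance _
  apply mem_span_hat_of_forall k r A
  intro n
  obtain ⟨ω, hω⟩ := exists_of_sub_mem (maximalIdeal A) (Ω[A⁄k]) hmfg y n
  refine ⟨c₀ • ω, ?_, ?_⟩
  · have h1 : KaehlerDifferential.map k P A A (c₀ • ω) = 0 := by
      rw [map_smul, hkill]
    obtain ⟨x, hx⟩ := (KaehlerDifferential.exact_mapBaseChange_map k P A (c₀ • ω)).mp h1
    rw [← hx]
    exact mapBaseChange_mem k r A n x
  · rw [map_smul, ← smul_sub]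
    exact Submodule.smul_mem _ _ hω

omit [IsLocalRing A] [IsNoetherianRing A] [Algebra k A] [IsScalarTower k (MvPowerSeries (Fin r) k) A]
  [Module.Finite (MvPowerSeries (Fin r) k) A] [IsLocalHom (algebraMap (MvPowerSeries (Fin r) k) A)]
  [IsAdicComplete (maximalIdeal A) A] in
theorem isSeparable_of_hsep
    (hsep : ∀ a : A, ∃ Q : Polynomial P, Polynomial.aeval a Q = 0 ∧
      (Q.map (algebraMap P (FractionRing P))).Separable) :
    Algebra.IsSeparable (FractionRing P) (FractionRing A) := by
  have h1 : ∀ a : A, IsSeparable (FractionRing P) (algebraMap A (FractionRing A) a) := by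
    intro a
    obtain ⟨Q, hQ, hQs⟩ := hsep a
    have hQ1 : Polynomial.aeval (algebraMap A (FractionRing A) a)
        (Q.map (algebraMap P (FractionRing P))) = 0 := by
      rw [Polynomial.aeval_map_algebraMap, Polynomial.aeval_algebraMap_apply, hQ, map_zero]
    exact hQs.of_dvd (minpoly.dvd (FractionRing P) _ hQ1)
  refine ⟨fun x => ?_⟩
  obtain ⟨a, b, -, rfl⟩ := IsFractionRing.div_surjective (A := A) x
  rw [div_eq_mul_inv]
  exact Field.isSeparable_mul (h1 a) (Field.isSeparable_inv (h1 b))

/-- the functional on the completed differentials extending the gradient -/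
theorem exists_functional
    [Algebra.IsSeparable (FractionRing (MvPowerSeries (Fin r) k)) (FractionRing A)] :
    ∃ Φ : AdicCompletion (maximalIdeal A) (Ω[A⁄k]) →ₗ[A] (Fin r → FractionRing A),
      ∀ j, Φ (AdicCompletion.of (maximalIdeal A) (Ω[A⁄k])
        (KaehlerDifferential.D k A (algebraMap P A (X j)))) = Pi.single j (1 : FractionRing A) := by
  obtain ⟨F, hFfg, hFD, -⟩ := exists_fg_range_DA k r A
  have hFfin : Module.Finite A F := Module.Finite.iff_fg.mpr hFfg
  have hFc : IsAdicComplete (maximalIdeal A) F :=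
    Groth.Agent.Lib.Helper75.CompletedModules.isAdicComplete_of_finite F
  let lam : Ω[A⁄k] →ₗ[A] (Fin r → FractionRing A) := (DA k r A).liftKaehlerDifferential
  have hlam : ∀ ω, lam ω ∈ F := by
    intro ω
    have hω : ω ∈ Submodule.span A (Set.range (KaehlerDifferential.D k A)) := by
      rw [KaehlerDifferential.span_range_derivation]; trivial
    induction hω using Submodule.span_induction with
    | mem x hx =>
      obtain ⟨a, rfl⟩ := hx
      rw [Derivation.liftKaehlerDifferential_comp_D]
      exact hFD a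
    | zero => rw [map_zero]; exact F.zero_mem
    | add x y _ _ hx hy => rw [map_add]; exact F.add_mem hx hy
    | smul a x _ hx => rw [map_smul]; exact F.smul_mem _ hx
  let lamF : Ω[A⁄k] →ₗ[A] F := lam.codRestrict F hlam
  let Φ : AdicCompletion (maximalIdeal A) (Ω[A⁄k]) →ₗ[A] (Fin r → FractionRing A) :=
    F.subtype ∘ₗ (AdicCompletion.ofLinearEquiv (maximalIdeal A) F).symm.toLinearMap ∘ₗ
      (AdicCompletion.map (maximalIdeal A) lamF).restrictScalars A
  refine ⟨Φ, fun j => ?_⟩
  have h1 : Φ (AdicCompletion.of (maximalIdeal A) (Ω[A⁄k])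
      (KaehlerDifferential.D k A (algebraMap P A (X j)))) =
      lam (KaehlerDifferential.D k A (algebraMap P A (X j))) := by
    simp only [Φ, LinearMap.comp_apply, LinearMap.restrictScalars_apply, AdicCompletion.map_of,
      LinearEquiv.coe_coe]
    rw [← AdicCompletion.ofLinearEquiv_apply, LinearEquiv.symm_apply_apply]
    rfl
  rw [h1, Derivation.liftKaehlerDifferential_comp_D, DA_X]

theorem finrank_eq
    (hsep : ∀ a : A, ∃ Q : Polynomial P, Polynomial.aeval a Q = 0 ∧
      (Q.map (algebraMap P (FractionRing P))).Separable) :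
    Module.finrank (FractionRing A)
      (FractionRing A ⊗[A] AdicCompletion (maximalIdeal A) (Ω[A⁄k])) = r := by
  classical
  have hS := isSeparable_of_hsep k r A hsep
  obtain ⟨Φ, hΦ⟩ := exists_functional k r A
  obtain ⟨c₀, hc₀, hspan⟩ := exists_smul_mem_span_hat k r A hsep
  let v : Fin r → FractionRing A ⊗[A] AdicCompletion (maximalIdeal A) (Ω[A⁄k]) := fun j =>
    (1 : FractionRing A) ⊗ₜ[A] AdicCompletion.of (maximalIdeal A) (Ω[A⁄k])
      (KaehlerDifferential.D k A (algebraMap P A (X j)))
  let Ψ : FractionRing A ⊗[A] AdicCompletion (maximalIdeal A) (Ω[A⁄k]) →ₗ[FractionRing A]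
      (Fin r → FractionRing A) := LinearMap.liftBaseChange (FractionRing A) Φ
  have hΨv : ∀ j, Ψ (v j) = Pi.single j (1 : FractionRing A) := by
    intro j
    simp only [Ψ, v, LinearMap.liftBaseChange_tmul, one_smul, hΦ]
  have hli : LinearIndependent (FractionRing A) v := by
    apply LinearIndependent.of_comp Ψ
    have : (Ψ ∘ v) = fun j => Pi.single j (1 : FractionRing A) := funext hΨv
    rw [this]
    exact Pi.linearIndependent_single_one (Fin r) (FractionRing A)
  have hc₀' : algebraMap A (FractionRing A) c₀ ≠ 0 := by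
    rw [Ne, IsFractionRing.to_map_eq_zero_iff]
    exact hc₀
  have hsp : ⊤ ≤ Submodule.span (FractionRing A) (Set.range v) := by
    rintro z -
    induction z using TensorProduct.induction_on with
    | zero => exact Submodule.zero_mem _
    | add x y hx hy => exact Submodule.add_mem _ hx hy
    | tmul c y =>
      have h1 : ((1 : FractionRing A) ⊗ₜ[A] (c₀ • y) :
          FractionRing A ⊗[A] AdicCompletion (maximalIdeal A) (Ω[A⁄k])) ∈
          Submodule.span (FractionRing A) (Set.range v) := by
        have hy := hspan y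
        generalize c₀ • y = w at hy
        induction hy using Submodule.span_induction with
        | mem x hx =>
          obtain ⟨j, rfl⟩ := hx
          exact Submodule.subset_span ⟨j, rfl⟩
        | zero => rw [TensorProduct.tmul_zero]; exact Submodule.zero_mem _
        | add x y _ _ hx hy => rw [TensorProduct.tmul_add]; exact Submodule.add_mem _ hx hy
        | smul a x _ hx =>
          rw [← TensorProduct.smul_tmul, ← mul_one (a • (1 : FractionRing A)),
            ← smul_eq_mul (a • (1 : FractionRing A)), ← TensorProduct.smul_tmul']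
          exact Submodule.smul_mem _ _ hx
      have h2 : c ⊗ₜ[A] y = (c * (algebraMap A (FractionRing A) c₀)⁻¹) •
          ((1 : FractionRing A) ⊗ₜ[A] (c₀ • y) :
            FractionRing A ⊗[A] AdicCompletion (maximalIdeal A) (Ω[A⁄k])) := by
        rw [← TensorProduct.smul_tmul, TensorProduct.smul_tmul', smul_eq_mul,
          Algebra.smul_def, mul_one, mul_assoc, inv_mul_cancel₀ hc₀', mul_one]
      rw [h2]
      exact Submodule.smul_mem _ _ h1
  have hb := Module.Basis.mk hli hsp
  rw [Module.finrank_eq_card_basis hb, Fintype.card_fin]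

end Sep

end

end Groth.Agent.Lib.Helper88.OmegaHat
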