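import Mathlib
import Groth.Agent.Lib.Helper88.OmegaHat.GenericRank

/-!
# The exact sequence `A^m → Ω̂_{A/k} → Ω_{A/P} → 0` for `A` finite over `P = k[[T_1..T_m]]` (helper88)

* `finite_omegaHat'`: `Ω̂_{A/k}` is a finite `A`-module (`A` complete local, residue field finite).
* `piHat`: the canonical surjection `Ω̂_{A/k} → Ω_{A/P}`; `ker_piHat`: its kernel is spanned by the
  `d̂ T_j`.
* `exists_span_localized_of_isUnramifiedAt`: if `A` is unramified over `P` at `p`, `(Ω̂_{A/k})_p` is
  generated by `m` elements.
-/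

set_option autoImplicit false
set_option linter.unusedSectionVars false

universe u

namespace Groth.Agent.Lib.Helper88.OmegaHat

open MvPowerSeries TensorProduct IsLocalRing

section Finite

variable (k A : Type u) [Field k] [CommRing A] [IsLocalRing A] [IsNoetherianRing A] [Algebra k A]
  [IsAdicComplete (maximalIdeal A) A] [Module.Finite k (ResidueField A)]

theorem finite_omegaHat' : Module.Finite A (AdicCompletion (maximalIdeal A) (Ω[A⁄k])) := by
  have hmfg : (maximalIdeal A).FG := (isNoetherianRing_iff_ideal_fg A).mp inferInstance _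
  have := Groth.Agent.Lib.Helper75.CompletedModules.finite_quot_kaehler k A hmfg
  exact Groth.Agent.Lib.Helper75.CompletedModules.finite_adicCompletion_of_finite_quot
    (maximalIdeal A) (Ω[A⁄k])

end Finite

section Exact

variable (k : Type u) [Field k] (r : ℕ)

variable (A : Type u) [CommRing A] [IsLocalRing A] [IsNoetherianRing A]
  [Algebra (MvPowerSeries (Fin r) k) A] [Algebra k A]
  [IsScalarTower k (MvPowerSeries (Fin r) k) A]
  [Module.Finite (MvPowerSeries (Fin r) k) A]
  [IsLocalHom (algebraMap (MvPowerSeries (Fin r) k) A)]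
  [IsAdicComplete (maximalIdeal A) A]

local notation "P" => MvPowerSeries (Fin r) k

theorem isAdicComplete_kaehler_rel : IsAdicComplete (maximalIdeal A) (Ω[A⁄P]) :=
  Groth.Agent.Lib.Helper75.CompletedModules.isAdicComplete_of_finite (Ω[A⁄P])

/-- the canonical map `Ω̂_{A/k} → Ω_{A/P}` -/
noncomputable def piHat : AdicCompletion (maximalIdeal A) (Ω[A⁄k]) →ₗ[A] Ω[A⁄P] :=
  have := isAdicComplete_kaehler_rel k r A
  (AdicCompletion.ofLinearEquiv (maximalIdeal A) (Ω[A⁄P])).symm.toLinearMap ∘ₗ
    (AdicCompletion.map (maximalIdeal A) (KaehlerDifferential.map k P A A)).restrictScalars A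

theorem piHat_of (ω : Ω[A⁄k]) :
    piHat k r A (AdicCompletion.of (maximalIdeal A) (Ω[A⁄k]) ω) =
      KaehlerDifferential.map k P A A ω := by
  have := isAdicComplete_kaehler_rel k r A
  unfold piHat
  simp only [LinearMap.comp_apply, LinearMap.restrictScalars_apply, AdicCompletion.map_of,
    LinearEquiv.coe_coe]
  rw [← AdicCompletion.ofLinearEquiv_apply, LinearEquiv.symm_apply_apply]

theorem piHat_surjective : Function.Surjective (piHat k r A) := by
  have := isAdicComplete_kaehler_rel k r A
  unfold piHat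
  exact (AdicCompletion.ofLinearEquiv (maximalIdeal A) (Ω[A⁄P])).symm.surjective.comp
    (AdicCompletion.map_surjective (maximalIdeal A) (KaehlerDifferential.map_surjective k P A))

/-- the completed differentials `d̂ T_j` -/
noncomputable def dHatT (j : Fin r) : AdicCompletion (maximalIdeal A) (Ω[A⁄k]) :=
  AdicCompletion.of (maximalIdeal A) (Ω[A⁄k]) (KaehlerDifferential.D k A (algebraMap P A (X j)))

theorem piHat_dHatT (j : Fin r) : piHat k r A (dHatT k r A j) = 0 := by
  unfold dHatT
  rw [piHat_of, KaehlerDifferential.map_D]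
  exact Derivation.map_algebraMap _ _

theorem piHat_mem_pow_smul_top (n : ℕ) (y : AdicCompletion (maximalIdeal A) (Ω[A⁄k]))
    (hy : y ∈ (maximalIdeal A ^ n • ⊤ : Submodule A (AdicCompletion (maximalIdeal A) (Ω[A⁄k])))) :
    piHat k r A y ∈ (maximalIdeal A ^ n • ⊤ : Submodule A (Ω[A⁄P])) := by
  have h1 := Submodule.mem_map_of_mem (f := piHat k r A) hy
  rw [Submodule.map_smul''] at h1
  exact Submodule.smul_mono le_rfl le_top h1

theorem ker_piHat :
    LinearMap.ker (piHat k r A) = Submodule.span A (Set.range (dHatT k r A)) := by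
  apply le_antisymm
  · intro y hy
    rw [LinearMap.mem_ker] at hy
    have hmfg : (maximalIdeal A).FG := (isNoetherianRing_iff_ideal_fg A).mp inferInstance _
    apply mem_span_hat_of_forall k r A
    intro n
    obtain ⟨ω₀, hω₀⟩ := exists_of_sub_mem (maximalIdeal A) (Ω[A⁄k]) hmfg y n
    have h1 := piHat_mem_pow_smul_top k r A n _ hω₀
    rw [map_sub, hy, zero_sub, piHat_of, Submodule.neg_mem_iff] at h1
    have h2 : KaehlerDifferential.map k P A A ω₀ ∈
        Submodule.map (KaehlerDifferential.map k P A A)
          (maximalIdeal A ^ n • ⊤ : Submodule A (Ω[A⁄k])) := by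
      rw [Submodule.map_smul'', Submodule.map_top,
        LinearMap.range_eq_top.mpr (KaehlerDifferential.map_surjective k P A)]
      exact h1
    obtain ⟨ω₁, hω₁, hω₁'⟩ := h2
    refine ⟨ω₀ - ω₁, ?_, ?_⟩
    · have h3 : KaehlerDifferential.map k P A A (ω₀ - ω₁) = 0 := by
        rw [map_sub, hω₁', sub_self]
      obtain ⟨x, hx⟩ := (KaehlerDifferential.exact_mapBaseChange_map k P A (ω₀ - ω₁)).mp h3
      rw [← hx]
      exact mapBaseChange_mem k r A n x
    · have h4 : y - AdicCompletion.of (maximalIdeal A) (Ω[A⁄k]) (ω₀ - ω₁) =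
          (y - AdicCompletion.of (maximalIdeal A) (Ω[A⁄k]) ω₀) +
            AdicCompletion.of (maximalIdeal A) (Ω[A⁄k]) ω₁ := by
        rw [map_sub]; abel
      rw [h4]
      exact Submodule.add_mem _ hω₀ (of_mem_pow_smul_top (maximalIdeal A) (Ω[A⁄k]) n ω₁ hω₁)
  · rw [Submodule.span_le]
    rintro _ ⟨j, rfl⟩
    exact piHat_dHatT k r A j

theorem exists_smul_mem_span (p : Ideal A) [p.IsPrime]
    (hu : Algebra.IsUnramifiedAt (MvPowerSeries (Fin r) k) p)
    (y : AdicCompletion (maximalIdeal A) (Ω[A⁄k])) :
    ∃ t ∉ p, t • y ∈ Submodule.span A (Set.range (dHatT k r A)) := by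
  have h1 : (⟨p, inferInstance⟩ : PrimeSpectrum A) ∈ Algebra.unramifiedLocus P A := hu
  rw [Algebra.unramifiedLocus_eq_compl_support, Set.mem_compl_iff,
    Module.notMem_support_iff'] at h1
  obtain ⟨t, ht, hty⟩ := h1 (piHat k r A y)
  refine ⟨t, ht, ?_⟩
  rw [← ker_piHat, LinearMap.mem_ker, map_smul, hty]

theorem span_localized_eq_top_of_isUnramifiedAt (p : Ideal A) [p.IsPrime]
    (hu : Algebra.IsUnramifiedAt (MvPowerSeries (Fin r) k) p) :
    Submodule.span (Localization.AtPrime p) (Set.range fun j : Fin r =>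
      LocalizedModule.mk (dHatT k r A j) (1 : p.primeCompl)) = ⊤ := by
  rw [eq_top_iff]
  rintro z -
  induction z using LocalizedModule.induction_on with
  | h y σ =>
    obtain ⟨t, ht, hty⟩ := exists_smul_mem_span k r A p hu y
    let τ : p.primeCompl := ⟨t, ht⟩
    have h1 : LocalizedModule.mk y σ =
        Localization.mk (1 : A) (τ * σ) • LocalizedModule.mk (t • y) (1 : p.primeCompl) := by
      rw [LocalizedModule.mk_smul_mk, one_smul, mul_one]
      exact (LocalizedModule.mk_cancel_common_left τ σ y).symm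
    rw [h1]
    refine Submodule.smul_mem _ _ ?_
    generalize t • y = w at hty
    induction hty using Submodule.span_induction with
    | mem x hx =>
      obtain ⟨j, rfl⟩ := hx
      exact Submodule.subset_span ⟨j, rfl⟩
    | zero =>
      rw [LocalizedModule.zero_mk]
      exact Submodule.zero_mem _
    | add x y _ _ hx hy =>
      have : LocalizedModule.mk (x + y) (1 : p.primeCompl) =
          LocalizedModule.mk x 1 + LocalizedModule.mk y 1 := by
        rw [LocalizedModule.mk_add_mk, one_smul, one_smul, one_mul]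
      rw [this]
      exact Submodule.add_mem _ hx hy
    | smul a x _ hx =>
      have : LocalizedModule.mk (a • x) (1 : p.primeCompl) =
          Localization.mk a (1 : p.primeCompl) • LocalizedModule.mk x (1 : p.primeCompl) := by
        rw [LocalizedModule.mk_smul_mk, one_mul]
      rw [this]
      exact Submodule.smul_mem _ _ hx

end Exact

end Groth.Agent.Lib.Helper88.OmegaHat
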