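import Mathlib
import Groth.Agent.S2469
import Groth.Agent.Lib.Helper88.OmegaHat.DerivExt

/-!
# Finite quotients of `Ω[A/k]` of generic rank at least `dim A` (helper88)

`A` a domain finite over `P = k[[T_1, …, T_n]]`, with fraction field `K`.

* `exists_quotient_of_separable`: if `K` is separable over `Frac P`, there is a finite `A`-module
  quotient `M'` of `Ω[A/k]` with `dim_K (K ⊗ M') ≥ n` (image of the extended gradient).
* `exists_quotient_of_charP`: in characteristic `p`, if the `T_i` map to `p`-th powers, the finite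
  quotient `Ω[A/P]` has `dim_K (K ⊗ Ω[A/P]) ≥ n` (Cartier's equality for `K / Frac P`).
-/

set_option autoImplicit false
set_option linter.unusedSectionVars false

universe u

namespace Groth.Agent.Lib.Helper88.OmegaHat

open MvPowerSeries TensorProduct

section Sep

variable (k : Type u) [Field k] (r : ℕ)

variable (A : Type u) [CommRing A] [IsDomain A] [IsNoetherianRing A]
  [Algebra (MvPowerSeries (Fin r) k) A] [Algebra k A]
  [IsScalarTower k (MvPowerSeries (Fin r) k) A]
  [Module.Finite (MvPowerSeries (Fin r) k) A]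
  [Algebra (FractionRing (MvPowerSeries (Fin r) k)) (FractionRing A)]
  [IsScalarTower (MvPowerSeries (Fin r) k) (FractionRing (MvPowerSeries (Fin r) k)) (FractionRing A)]
  [Algebra.IsSeparable (FractionRing (MvPowerSeries (Fin r) k)) (FractionRing A)]

local notation "P" => MvPowerSeries (Fin r) k

theorem exists_quotient_of_separable :
    ∃ (M' : Submodule A (Fin r → FractionRing A)) (lam : Ω[A⁄k] →ₗ[A] M'),
      Module.Finite A M' ∧ Function.Surjective lam ∧
      r ≤ Module.finrank (FractionRing A) (FractionRing A ⊗[A] M') := by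
  classical
  obtain ⟨F, hFfg, hFD, -⟩ := exists_fg_range_DA k r A
  let lam₀ : Ω[A⁄k] →ₗ[A] (Fin r → FractionRing A) := (DA k r A).liftKaehlerDifferential
  have hlam₀ : ∀ ω, lam₀ ω ∈ F := by
    intro ω
    have hω : ω ∈ Submodule.span A (Set.range (KaehlerDifferential.D k A)) := by
      rw [KaehlerDifferential.span_range_derivation]; trivial
    induction hω using Submodule.span_induction with
    | mem x hx =>
      obtain ⟨a, rfl⟩ := hx
      rw [Derivation.liftKaehlerDifferential_comp_D]
      exact hFD a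
    | zero => rw [map_zero]; exact F.zero_mem
    | add x y _ _ hx hy => rw [map_add]; exact F.add_mem hx hy
    | smul a x _ hx => rw [map_smul]; exact F.smul_mem _ hx
  have hle : LinearMap.range lam₀ ≤ F := by
    rintro _ ⟨ω, rfl⟩
    exact hlam₀ ω
  have hFfin : Module.Finite A F := Module.Finite.iff_fg.mpr hFfg
  have hM'fin : Module.Finite A (LinearMap.range lam₀) :=
    Module.Finite.of_injective (Submodule.inclusion hle) (Submodule.inclusion_injective hle)
  refine ⟨LinearMap.range lam₀, lam₀.rangeRestrict, hM'fin, lam₀.surjective_rangeRestrict, ?_⟩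
  let Ψ : FractionRing A ⊗[A] (LinearMap.range lam₀) →ₗ[FractionRing A] (Fin r → FractionRing A) :=
    LinearMap.liftBaseChange (FractionRing A) (LinearMap.range lam₀).subtype
  have hΨ : Function.Surjective Ψ := by
    rw [← LinearMap.range_eq_top, eq_top_iff, ← (Pi.basisFun (FractionRing A) (Fin r)).span_eq,
      Submodule.span_le]
    rintro _ ⟨j, rfl⟩
    refine ⟨(1 : FractionRing A) ⊗ₜ[A]
      ⟨lam₀ (KaehlerDifferential.D k A (algebraMap P A (X j))), ⟨_, rfl⟩⟩, ?_⟩
    simp only [Ψ, LinearMap.liftBaseChange_tmul, one_smul, Submodule.subtype_apply]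
    rw [Derivation.liftKaehlerDifferential_comp_D, DA_X, Pi.basisFun_apply]
  have h1 := LinearMap.finrank_le_finrank_of_surjective hΨ
  rwa [Module.finrank_fin_fun] at h1

end Sep

section CharP

attribute [local instance 10000] Ring.toIntAlgebra

variable (k : Type u) [Field k] (n : ℕ) (p : ℕ) [Fact p.Prime]

variable (A : Type u) [CommRing A] [IsDomain A]
  [Algebra (MvPowerSeries (Fin n) k) A] [Algebra k A]
  [IsScalarTower k (MvPowerSeries (Fin n) k) A]
  [Module.Finite (MvPowerSeries (Fin n) k) A] [FaithfulSMul (MvPowerSeries (Fin n) k) A]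
  [Algebra (FractionRing (MvPowerSeries (Fin n) k)) (FractionRing A)]
  [IsScalarTower (MvPowerSeries (Fin n) k) (FractionRing (MvPowerSeries (Fin n) k)) (FractionRing A)]
  [CharP (FractionRing A) p]

local notation "P" => MvPowerSeries (Fin n) k
local notation "L₁" => FractionRing (MvPowerSeries (Fin n) k)
local notation "K" => FractionRing A

theorem finite_fractionRing : Module.Finite L₁ K :=
  Module.Finite.of_isLocalization P A (nonZeroDivisors P)

theorem finrank_kaehler_fraction_ge (y : Fin n → A) (hy : ∀ i, algebraMap P A (X i) = y i ^ p) :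
    n ≤ Module.finrank K (Ω[K⁄L₁]) := by
  classical
  have hdomP : IsDomain P := NoZeroDivisors.to_isDomain _
  have htowerZ : IsScalarTower ℤ L₁ K := AddCommGroup.intIsScalarTower
  have hfinLK : Module.Finite L₁ K := finite_fractionRing k n A
  obtain ⟨hΩfin, hΥfin, hcartier⟩ := @Groth.Agent.S2469.result L₁ K _ _ _ _
  have htr : Algebra.trdeg L₁ K = 0 := trdeg_eq_zero
  rw [htr, map_zero, Nat.cast_zero, sub_eq_zero] at hcartier
  let z : Fin n → K ⊗[L₁] Ω[L₁⁄ℤ] := fun i =>
    (1 : K) ⊗ₜ[L₁] KaehlerDifferential.D ℤ L₁ (algebraMap P L₁ (X i))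
  have hz : ∀ i, z i ∈ EGA41.imperfection ℤ L₁ K := by
    intro i
    change KaehlerDifferential.mapBaseChange ℤ L₁ K (z i) = 0
    rw [KaehlerDifferential.mapBaseChange_tmul, one_smul, KaehlerDifferential.map_D,
      ← IsScalarTower.algebraMap_apply P L₁ K, IsScalarTower.algebraMap_apply P A K, hy, map_pow,
      Derivation.leibniz_pow, ← Nat.cast_smul_eq_nsmul K, CharP.cast_eq_zero, zero_smul]
  let ξ : Ω[L₁⁄ℤ] →ₗ[L₁] (Fin n → K) :=
    (LinearMap.pi fun j => (Algebra.linearMap L₁ K) ∘ₗ (LinearMap.proj j)) ∘ₗ (Lam k n P) ∘ₗ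
      (KaehlerDifferential.map ℤ k L₁ L₁)
  let Ξ : K ⊗[L₁] Ω[L₁⁄ℤ] →ₗ[K] (Fin n → K) := LinearMap.liftBaseChange K ξ
  have hΞ : ∀ i, Ξ (z i) = Pi.single i (1 : K) := by
    intro i
    funext j
    have h1 : Lam k n P (KaehlerDifferential.D k L₁ (algebraMap P L₁ (X i))) j =
        algebraMap P L₁ (pderiv k j (X i)) := Lam_D_algebraMap k n P (X i) j
    simp only [Ξ, z, ξ, LinearMap.liftBaseChange_tmul, one_smul, LinearMap.comp_apply,
      KaehlerDifferential.map_D, LinearMap.pi_apply, LinearMap.proj_apply,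
      Algebra.linearMap_apply, Algebra.algebraMap_self, RingHom.id_apply, h1]
    rw [pderiv_X]
    by_cases h : j = i
    · subst h
      rw [Pi.single_eq_same, Pi.single_eq_same, map_one, map_one]
    · rw [Pi.single_eq_of_ne (Ne.symm h), Pi.single_eq_of_ne h, map_zero, map_zero]
  have hli : LinearIndependent K z := by
    apply LinearIndependent.of_comp Ξ
    rw [show (Ξ ∘ z) = fun i => Pi.single i (1 : K) from funext hΞ]
    exact Pi.linearIndependent_single_one (Fin n) K
  have hliΥ : LinearIndependent K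
      (fun i => (⟨z i, hz i⟩ : EGA41.imperfection ℤ L₁ K)) := by
    apply LinearIndependent.of_comp (EGA41.imperfection ℤ L₁ K).subtype
    exact hli
  have h2 := hliΥ.fintype_card_le_finrank
  rw [Fintype.card_fin] at h2
  have h3 : Module.finrank K (Ω[K⁄L₁]) = Module.finrank K (EGA41.imperfection ℤ L₁ K) := by
    exact_mod_cast hcartier
  rw [h3]
  exact h2

theorem exists_quotient_of_charP (y : Fin n → A) (hy : ∀ i, algebraMap P A (X i) = y i ^ p) :
    n ≤ Module.finrank K (K ⊗[A] Ω[A⁄P]) := by
  have h1 := finrank_kaehler_fraction_ge k n p A y hy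
  have hloc : IsLocalizedModule (nonZeroDivisors A) (KaehlerDifferential.map P P A K) :=
    inferInstance
  have hbc : IsBaseChange K (KaehlerDifferential.map P P A K) :=
    (isLocalizedModule_iff_isBaseChange (nonZeroDivisors A) K _).mp hloc
  let e : K ⊗[A] Ω[A⁄P] ≃ₗ[K] Ω[K⁄P] := hbc.equiv
  have hsurj : Function.Surjective
      ((KaehlerDifferential.map P L₁ K K) ∘ₗ e.toLinearMap) :=
    (KaehlerDifferential.map_surjective P L₁ K).comp e.surjective
  exact h1.trans (LinearMap.finrank_le_finrank_of_surjective hsurj)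

end CharP

end Groth.Agent.Lib.Helper88.OmegaHat
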