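import Mathlib
import Groth.Agent.Lib.Helper48.CompleteLocalDomain
import Groth.Agent.Lib.Helper90.FiniteResidue

/-!
# Noether normalisation of complete local domains with finite residue field extension (helper88)

`A` a complete Noetherian local domain, a `k`-algebra with residue field finite over `k`; for a
system of parameters `x₁, …, xₙ` (`n = dim A`) the evaluation map `k[[X₁, …, Xₙ]] → A`, `X_i ↦ x_i`,
is finite and injective.  (Adapted from `Helper48.exists_finite_injective_eval`, which assumes the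
coefficient ring surjects onto the residue field.)
-/

set_option autoImplicit false
set_option linter.unusedSectionVars false

universe u

namespace Groth.Agent.Lib.Helper88.OmegaHat

open IsLocalRing

/-- evaluation at an `𝔪`-primary family is finite (no domain hypothesis). -/
theorem exists_finite_eval (k A : Type u) [Field k] [CommRing A]
    [IsLocalRing A] [IsNoetherianRing A] [IsAdicComplete (maximalIdeal A) A] [Algebra k A]
    [Module.Finite k (ResidueField A)]
    (n : ℕ) (x : Fin n → A) (hx : ∀ i, x i ∈ maximalIdeal A)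
    (hprim : ∀ p : Ideal A, p.IsPrime → Ideal.span (Set.range x) ≤ p → p = maximalIdeal A) :
    ∃ φ : MvPowerSeries (Fin n) k →ₐ[k] A, (∀ i, φ (MvPowerSeries.X i) = x i) ∧
      φ.toRingHom.Finite := by
  classical
  obtain ⟨φ, hφ1, -⟩ := Groth.Agent.Lib.Helper90.PSUniv.exists_eval (B := k) (maximalIdeal A) x hx
  have hX : ∀ i, φ (MvPowerSeries.X i) = x i := by
    intro i
    have := hφ1 (MvPolynomial.X i)
    rwa [MvPolynomial.coe_X, MvPolynomial.aeval_X] at this
  have hxle : Ideal.span (Set.range x) ≤ maximalIdeal A := by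
    rw [Ideal.span_le]; rintro _ ⟨i, rfl⟩; exact hx i
  have hrad : maximalIdeal A ≤ (Ideal.span (Set.range x)).radical := by
    rw [Ideal.radical_eq_sInf]
    refine le_sInf ?_
    rintro p ⟨hle, hp⟩
    rw [hprim p hp hle]
  have hfinC : Module.Finite k (A ⧸ Ideal.span (Set.range x)) :=
    Groth.Agent.Lib.Helper90.FiniteResidue.finite_quotient_of_le_radical k A _ hrad
  let _ : Algebra (MvPowerSeries (Fin n) k) A := φ.toRingHom.toAlgebra
  have : IsScalarTower k (MvPowerSeries (Fin n) k) A :=
    IsScalarTower.of_algebraMap_eq (fun c => (φ.commutes c).symm)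
  have hmapX : (Ideal.span (Set.range (MvPowerSeries.X : Fin n → MvPowerSeries (Fin n) k))).map
      (algebraMap (MvPowerSeries (Fin n) k) A) = Ideal.span (Set.range x) := by
    rw [Ideal.map_span, ← Set.range_comp]
    congr 2
    ext i
    exact hX i
  have : IsHausdorff (Ideal.span (Set.range (MvPowerSeries.X : Fin n → MvPowerSeries (Fin n) k)))
      A := IsHausdorff.of_map (S := A) (J := maximalIdeal A) (hmapX.le.trans hxle)
  obtain ⟨T, hT, hTs⟩ := Groth.Agent.Lib.Helper48.exists_fg_forall_sub_mem_ideal (R := k)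
    (Ideal.span (Set.range x))
  obtain ⟨G, hG⟩ := hT
  have hfinP : Module.Finite (MvPowerSeries (Fin n) k) A := by
    refine Groth.Agent.Lib.Helper48.finite_of_isPrecomplete_of_isHausdorff
      (Ideal.span (Set.range (MvPowerSeries.X : Fin n → MvPowerSeries (Fin n) k)))
      (Submodule.span (MvPowerSeries (Fin n) k) (G : Set A)) (Submodule.fg_span G.finite_toSet)
      (fun r => ?_)
    obtain ⟨t, ht, hrt⟩ := hTs r
    refine ⟨t, ?_, ?_⟩
    · rw [← hG] at ht
      exact Submodule.span_le_restrictScalars k (MvPowerSeries (Fin n) k) (G : Set A) ht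
    · rw [Ideal.smul_top_eq_map, hmapX]
      exact hrt
  exact ⟨φ, hX, hfinP⟩

theorem exists_finite_injective_eval (k A : Type u) [Field k] [CommRing A] [IsDomain A]
    [IsLocalRing A] [IsNoetherianRing A] [IsAdicComplete (maximalIdeal A) A] [Algebra k A]
    [Module.Finite k (ResidueField A)]
    (n : ℕ) (x : Fin n → A) (hx : ∀ i, x i ∈ maximalIdeal A)
    (hprim : ∀ p : Ideal A, p.IsPrime → Ideal.span (Set.range x) ≤ p → p = maximalIdeal A)
    (hdim : (n : WithBot ℕ∞) ≤ ringKrullDim A) :
    ∃ φ : MvPowerSeries (Fin n) k →ₐ[k] A, (∀ i, φ (MvPowerSeries.X i) = x i) ∧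
      Function.Injective φ ∧ φ.toRingHom.Finite := by
  classical
  obtain ⟨φ, hX, hfinP⟩ := exists_finite_eval k A n x hx hprim
  refine ⟨φ, hX, ?_, hfinP⟩
  -- injectivity by dimension
  rw [injective_iff_map_eq_zero]
  intro r hr
  by_contra hr0
  have hrnzd : r ∈ nonZeroDivisors (MvPowerSeries (Fin n) k) := mem_nonZeroDivisors_of_ne_zero hr0
  have h1 := ringKrullDim_quotient_succ_le_of_nonZeroDivisor hrnzd
  obtain ⟨ψ, hψ⟩ : ∃ ψ : (MvPowerSeries (Fin n) k ⧸ Ideal.span {r}) →+* A,
      ψ.comp (Ideal.Quotient.mk _) = φ.toRingHom := by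
    refine ⟨Ideal.Quotient.lift _ φ.toRingHom ?_, ?_⟩
    · intro a ha
      rw [Ideal.mem_span_singleton'] at ha
      obtain ⟨b, rfl⟩ := ha
      change φ (b * r) = 0
      rw [map_mul, hr, mul_zero]
    · ext a
      simp
  have hψint : ψ.IsIntegral := by
    have h2 : (ψ.comp (Ideal.Quotient.mk _)).IsIntegral := by
      rw [hψ]
      exact RingHom.Finite.to_isIntegral hfinP
    exact RingHom.IsIntegral.tower_top _ _ h2
  have h3 : ringKrullDim A ≤ ringKrullDim (MvPowerSeries (Fin n) k ⧸ Ideal.span {r}) := by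
    let _ := ψ.toAlgebra
    have : Algebra.IsIntegral (MvPowerSeries (Fin n) k ⧸ Ideal.span {r}) A := ⟨hψint⟩
    exact Groth.Agent.Lib.Helper55.ringKrullDim_le_of_isIntegral _ A
  have h4 := Groth.Agent.Lib.Helper48.ringKrullDim_mvPowerSeries_le k n
  rw [ringKrullDim_eq_zero_of_field, zero_add] at h4
  have h5 : ringKrullDim A + 1 ≤ ringKrullDim A :=
    (add_le_add_left h3 1).trans (h1.trans (h4.trans hdim))
  have hne_top : ringKrullDim A ≠ ⊤ := ringKrullDim_ne_top
  have hne_bot : ringKrullDim A ≠ ⊥ := ringKrullDim_ne_bot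
  obtain ⟨d, hd⟩ := WithBot.ne_bot_iff_exists.mp hne_bot
  rw [← hd] at h5 hne_top
  have hdtop : d ≠ ⊤ := fun h => hne_top (by rw [h]; rfl)
  obtain ⟨m, hm⟩ := ENat.ne_top_iff_exists.mp hdtop
  rw [← hm] at h5
  have h6 : (m : ℕ) + 1 ≤ m := by exact_mod_cast h5
  omega

end Groth.Agent.Lib.Helper88.OmegaHat
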