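import Mathlib

/-!
# Upper semicontinuity of the fibre rank, generic point of a quotient versus a prime (helper88)

For primes `q ≤ p` of `A` and a finite `A`-module `M` which is an `A ⧸ q`-module, the dimension of
`Frac (A ⧸ q) ⊗ M` is at most the dimension of the fibre `κ(p) ⊗ M`.
-/

set_option autoImplicit false
set_option linter.unusedSectionVars false

universe u

namespace Groth.Agent.Lib.Helper88.OmegaHat

open TensorProduct

theorem finrank_fractionRing_quotient_le (A : Type u) [CommRing A] (q p : Ideal A) [q.IsPrime]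
    [p.IsPrime] (hqp : q ≤ p) (M : Type u) [AddCommGroup M] [Module A M] [Module (A ⧸ q) M]
    [IsScalarTower A (A ⧸ q) M] [Module.Finite A M] :
    (Module.finrank (FractionRing (A ⧸ q)) (FractionRing (A ⧸ q) ⊗[A ⧸ q] M) : Cardinal) ≤
      Module.rank p.ResidueField (p.ResidueField ⊗[A] M) := by
  classical
  have hspanV : Submodule.span p.ResidueField
      (Set.range fun m : M => (1 : p.ResidueField) ⊗ₜ[A] m) = ⊤ := by
    rw [eq_top_iff]
    rintro z -
    induction z using TensorProduct.induction_on with
    | zero => exact Submodule.zero_mem _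
    | add x y hx hy => exact Submodule.add_mem _ hx hy
    | tmul c m =>
      have : c ⊗ₜ[A] m = c • ((1 : p.ResidueField) ⊗ₜ[A] m) := by
        rw [TensorProduct.smul_tmul', smul_eq_mul, mul_one]
      rw [this]
      exact Submodule.smul_mem _ _ (Submodule.subset_span ⟨m, rfl⟩)
  obtain ⟨b, hbs, hbspan, hbli⟩ := exists_linearIndependent p.ResidueField
    (Set.range fun m : M => (1 : p.ResidueField) ⊗ₜ[A] m)
  rw [hspanV] at hbspan
  have hbfin : b.Finite := hbli.setFinite
  have : Fintype b := hbfin.fintype
  have hμ : Module.finrank p.ResidueField (p.ResidueField ⊗[A] M) = Fintype.card b :=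
    Module.finrank_eq_card_basis (Module.Basis.mk hbli (by rw [Subtype.range_coe]; exact hbspan.ge))
  have hg : ∀ v : b, ∃ m : M, (1 : p.ResidueField) ⊗ₜ[A] m = (v : p.ResidueField ⊗[A] M) :=
    fun v => hbs v.2
  choose g hg using hg
  let N : Submodule A M := Submodule.span A (Set.range g)
  -- the fibre of the quotient vanishes
  have hsub : Subsingleton (p.ResidueField ⊗[A] (M ⧸ N)) := by
    have hsurj : Function.Surjective (LinearMap.baseChange p.ResidueField N.mkQ) :=
      LinearMap.lTensor_surjective _ (Submodule.mkQ_surjective N)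
    have hzero : LinearMap.baseChange p.ResidueField N.mkQ = 0 := by
      apply LinearMap.ext_on_range (v := fun v : b => (v : p.ResidueField ⊗[A] M))
      · rw [Subtype.range_coe]; exact hbspan
      · intro v
        rw [← hg v, LinearMap.baseChange_tmul, LinearMap.zero_apply]
        have : N.mkQ (g v) = 0 := by
          rw [Submodule.mkQ_apply, Submodule.Quotient.mk_eq_zero]
          exact Submodule.subset_span ⟨v, rfl⟩
        rw [this, TensorProduct.tmul_zero]
    refine ⟨fun x y => ?_⟩
    obtain ⟨x', rfl⟩ := hsurj x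
    obtain ⟨y', rfl⟩ := hsurj y
    rw [hzero, LinearMap.zero_apply, LinearMap.zero_apply]
  have hnsupp : (⟨p, inferInstance⟩ : PrimeSpectrum A) ∉ Module.support A (M ⧸ N) := by
    rw [Module.mem_support_iff_nontrivial_residueField_tensorProduct]
    exact not_nontrivial_iff_subsingleton.mpr hsub
  rw [Module.mem_support_iff_of_finite] at hnsupp
  obtain ⟨s, hsann, hsp⟩ := Set.not_subset.mp hnsupp
  have hsN : ∀ m : M, s • m ∈ N := by
    intro m
    have h1 : s • N.mkQ m = 0 := Module.mem_annihilator.mp hsann _
    rwa [← map_smul, Submodule.mkQ_apply, Submodule.Quotient.mk_eq_zero] at h1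
  have hsq : Ideal.Quotient.mk q s ≠ 0 := by
    rw [Ne, Ideal.Quotient.eq_zero_iff_mem]
    exact fun h => hsp (hqp h)
  have hsK : algebraMap (A ⧸ q) (FractionRing (A ⧸ q)) (Ideal.Quotient.mk q s) ≠ 0 := by
    rw [Ne, IsFractionRing.to_map_eq_zero_iff]
    exact hsq
  let w : b → FractionRing (A ⧸ q) ⊗[A ⧸ q] M := fun v => (1 : FractionRing (A ⧸ q)) ⊗ₜ[A ⧸ q] g v
  have hN : ∀ x ∈ N, ((1 : FractionRing (A ⧸ q)) ⊗ₜ[A ⧸ q] x :
      FractionRing (A ⧸ q) ⊗[A ⧸ q] M) ∈ Submodule.span (FractionRing (A ⧸ q)) (Set.range w) := by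
    intro x hx
    induction hx using Submodule.span_induction with
    | mem x hx =>
      obtain ⟨v, rfl⟩ := hx
      exact Submodule.subset_span ⟨v, rfl⟩
    | zero => rw [TensorProduct.tmul_zero]; exact Submodule.zero_mem _
    | add x y _ _ hx hy => rw [TensorProduct.tmul_add]; exact Submodule.add_mem _ hx hy
    | smul a x _ hx =>
      have h1 : a • x = (Ideal.Quotient.mk q a) • x := by
        rw [← algebraMap_smul (A ⧸ q) a x]
        rfl
      rw [h1, ← TensorProduct.smul_tmul, ← mul_one ((Ideal.Quotient.mk q a) • (1 : FractionRing (A ⧸ q))),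
        ← smul_eq_mul ((Ideal.Quotient.mk q a) • (1 : FractionRing (A ⧸ q))),
        ← TensorProduct.smul_tmul']
      exact Submodule.smul_mem _ _ hx
  have hspanK : Submodule.span (FractionRing (A ⧸ q)) (Set.range w) = ⊤ := by
    rw [eq_top_iff]
    rintro z -
    induction z using TensorProduct.induction_on with
    | zero => exact Submodule.zero_mem _
    | add x y hx hy => exact Submodule.add_mem _ hx hy
    | tmul c m =>
      have h1 : s • m = (Ideal.Quotient.mk q s) • m := by
        rw [← algebraMap_smul (A ⧸ q) s m]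
        rfl
      have h2 : c ⊗ₜ[A ⧸ q] m =
          (c * (algebraMap (A ⧸ q) (FractionRing (A ⧸ q)) (Ideal.Quotient.mk q s))⁻¹) •
            ((1 : FractionRing (A ⧸ q)) ⊗ₜ[A ⧸ q] (s • m) :
              FractionRing (A ⧸ q) ⊗[A ⧸ q] M) := by
        rw [h1, ← TensorProduct.smul_tmul, TensorProduct.smul_tmul', smul_eq_mul,
          Algebra.smul_def, mul_one, mul_assoc, inv_mul_cancel₀ hsK, mul_one]
      rw [h2]
      exact Submodule.smul_mem _ _ (hN _ (hsN m))
  have hle : Module.finrank (FractionRing (A ⧸ q)) (FractionRing (A ⧸ q) ⊗[A ⧸ q] M) ≤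
      Fintype.card b := by
    have h1 := finrank_range_le_card (R := FractionRing (A ⧸ q)) w
    rw [Set.finrank, hspanK, finrank_top] at h1
    exact h1
  rw [← Module.finrank_eq_rank, hμ]
  exact_mod_cast hle

end Groth.Agent.Lib.Helper88.OmegaHat
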