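import Mathlib
import Groth.Agent.Lib.Helper88.OmegaHat.NoetherNorm
import Groth.Agent.Lib.Helper88.OmegaHat.Semicont
import Groth.Agent.Lib.Helper88.OmegaHat.LowerBound
import Groth.Agent.Lib.Helper44.AdicQuot
import Groth.Agent.Lib.Helper85.RegularLocal
import Groth.Agent.Lib.Helper75.CompletedModules

/-!
# Fibre rank of the completed module of differentials (helper88)

`A` a complete Noetherian local `k`-algebra with residue field finite over `k`, `q ≤ p` primes with
`q` minimal.  Then `dim A/q ≤ rank_{κ(p)} (κ(p) ⊗ Ω̂_{A/k})`.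
-/

set_option autoImplicit false
set_option linter.unusedSectionVars false

universe u

namespace Groth.Agent.Lib.Helper88.OmegaHat

open IsLocalRing TensorProduct MvPowerSeries

section Domain

variable (k A : Type u) [Field k] [CommRing A] [IsDomain A] [IsLocalRing A] [IsNoetherianRing A]
  [Algebra k A] [IsAdicComplete (maximalIdeal A) A] [Module.Finite k (ResidueField A)]

theorem exists_finite_quotient_of_charZero [CharZero k] :
    ∃ (n : ℕ) (M' : Type u) (_ : AddCommGroup M') (_ : Module A M') (lam : Ω[A⁄k] →ₗ[A] M'),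
      (n : WithBot ℕ∞) = ringKrullDim A ∧ Module.Finite A M' ∧ Function.Surjective lam ∧
      n ≤ Module.finrank (FractionRing A) (FractionRing A ⊗[A] M') := by
  classical
  obtain ⟨n, x, hn, hx, hprim⟩ := Groth.Agent.Lib.Helper48.exists_sop A
  obtain ⟨φ, hφX, hφinj, hφfin⟩ := exists_finite_injective_eval k A n x hx hprim hn.le
  let _ : Algebra (MvPowerSeries (Fin n) k) A := φ.toRingHom.toAlgebra
  have : IsScalarTower k (MvPowerSeries (Fin n) k) A :=
    IsScalarTower.of_algebraMap_eq (fun c => (φ.commutes c).symm)
  have : Module.Finite (MvPowerSeries (Fin n) k) A := hφfin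
  have hinj : Function.Injective (algebraMap (MvPowerSeries (Fin n) k) A) := hφinj
  have hfaith : FaithfulSMul (MvPowerSeries (Fin n) k) A :=
    (faithfulSMul_iff_algebraMap_injective _ _).mpr hinj
  have hdomP : IsDomain (MvPowerSeries (Fin n) k) := NoZeroDivisors.to_isDomain _
  have hfaithK : FaithfulSMul (MvPowerSeries (Fin n) k) (FractionRing A) := by
    rw [faithfulSMul_iff_algebraMap_injective,
      IsScalarTower.algebraMap_eq (MvPowerSeries (Fin n) k) A (FractionRing A)]
    exact (IsFractionRing.injective A (FractionRing A)).comp hinj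
  let _ : Algebra (FractionRing (MvPowerSeries (Fin n) k)) (FractionRing A) :=
    FractionRing.liftAlgebra (MvPowerSeries (Fin n) k) (FractionRing A)
  have : IsScalarTower (MvPowerSeries (Fin n) k) (FractionRing (MvPowerSeries (Fin n) k))
      (FractionRing A) :=
    FractionRing.isScalarTower_liftAlgebra (MvPowerSeries (Fin n) k) (FractionRing A)
  have hfinLK : Module.Finite (FractionRing (MvPowerSeries (Fin n) k)) (FractionRing A) :=
    Module.Finite.of_isLocalization (MvPowerSeries (Fin n) k) A
      (nonZeroDivisors (MvPowerSeries (Fin n) k))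
  have hchar0 : CharZero (FractionRing (MvPowerSeries (Fin n) k)) := by
    have h1 : Function.Injective (algebraMap k (FractionRing (MvPowerSeries (Fin n) k))) :=
      (algebraMap k (FractionRing (MvPowerSeries (Fin n) k))).injective
    exact charZero_of_injective_algebraMap h1
  have hsep : Algebra.IsSeparable (FractionRing (MvPowerSeries (Fin n) k)) (FractionRing A) :=
    inferInstance
  obtain ⟨M', lam, h1, h2, h3⟩ := exists_quotient_of_separable k n A
  exact ⟨n, M', inferInstance, inferInstance, lam, hn, h1, h2, h3⟩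

theorem exists_finite_quotient_of_charP (p : ℕ) [Fact p.Prime] [CharP k p] :
    ∃ (n : ℕ) (M' : Type u) (_ : AddCommGroup M') (_ : Module A M') (lam : Ω[A⁄k] →ₗ[A] M'),
      (n : WithBot ℕ∞) = ringKrullDim A ∧ Module.Finite A M' ∧ Function.Surjective lam ∧
      n ≤ Module.finrank (FractionRing A) (FractionRing A ⊗[A] M') := by
  classical
  obtain ⟨n, x, hn, hx, hprim⟩ := Groth.Agent.Lib.Helper48.exists_sop A
  have hppos : 0 < p := (Fact.out : p.Prime).pos
  have hx' : ∀ i, x i ^ p ∈ maximalIdeal A := fun i =>
    Ideal.pow_mem_of_mem _ (hx i) p hppos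
  have hprim' : ∀ Q : Ideal A, Q.IsPrime → Ideal.span (Set.range fun i => x i ^ p) ≤ Q →
      Q = maximalIdeal A := by
    intro Q hQ hle
    apply hprim Q hQ
    rw [Ideal.span_le]
    rintro _ ⟨i, rfl⟩
    exact hQ.mem_of_pow_mem p (hle (Ideal.subset_span ⟨i, rfl⟩))
  obtain ⟨φ, hφX, hφinj, hφfin⟩ :=
    exists_finite_injective_eval k A n (fun i => x i ^ p) hx' hprim' hn.le
  let _ : Algebra (MvPowerSeries (Fin n) k) A := φ.toRingHom.toAlgebra
  have : IsScalarTower k (MvPowerSeries (Fin n) k) A :=
    IsScalarTower.of_algebraMap_eq (fun c => (φ.commutes c).symm)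
  have : Module.Finite (MvPowerSeries (Fin n) k) A := hφfin
  have hinj : Function.Injective (algebraMap (MvPowerSeries (Fin n) k) A) := hφinj
  have hfaith : FaithfulSMul (MvPowerSeries (Fin n) k) A :=
    (faithfulSMul_iff_algebraMap_injective _ _).mpr hinj
  have hdomP : IsDomain (MvPowerSeries (Fin n) k) := NoZeroDivisors.to_isDomain _
  have hfaithK : FaithfulSMul (MvPowerSeries (Fin n) k) (FractionRing A) := by
    rw [faithfulSMul_iff_algebraMap_injective,
      IsScalarTower.algebraMap_eq (MvPowerSeries (Fin n) k) A (FractionRing A)]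
    exact (IsFractionRing.injective A (FractionRing A)).comp hinj
  let _ : Algebra (FractionRing (MvPowerSeries (Fin n) k)) (FractionRing A) :=
    FractionRing.liftAlgebra (MvPowerSeries (Fin n) k) (FractionRing A)
  have : IsScalarTower (MvPowerSeries (Fin n) k) (FractionRing (MvPowerSeries (Fin n) k))
      (FractionRing A) :=
    FractionRing.isScalarTower_liftAlgebra (MvPowerSeries (Fin n) k) (FractionRing A)
  have hcharK : CharP (FractionRing A) p :=
    charP_of_injective_algebraMap (algebraMap k (FractionRing A)).injective p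
  have h := exists_quotient_of_charP k n p A x (fun i => hφX i)
  exact ⟨n, Ω[A⁄MvPowerSeries (Fin n) k], inferInstance, inferInstance,
    KaehlerDifferential.map k (MvPowerSeries (Fin n) k) A A, hn, inferInstance,
    KaehlerDifferential.map_surjective k (MvPowerSeries (Fin n) k) A, h⟩

theorem exists_finite_quotient :
    ∃ (n : ℕ) (M' : Type u) (_ : AddCommGroup M') (_ : Module A M') (lam : Ω[A⁄k] →ₗ[A] M'),
      (n : WithBot ℕ∞) = ringKrullDim A ∧ Module.Finite A M' ∧ Function.Surjective lam ∧
      n ≤ Module.finrank (FractionRing A) (FractionRing A ⊗[A] M') := by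
  obtain ⟨p, hp⟩ := CharP.exists k
  rcases CharP.char_is_prime_or_zero k p with hpp | hp0
  · have : Fact p.Prime := ⟨hpp⟩
    exact exists_finite_quotient_of_charP k A p
  · subst hp0
    have : CharZero k := CharP.charP_to_charZero k
    exact exists_finite_quotient_of_charZero k A

end Domain

section Main

variable (k A : Type u) [Field k] [CommRing A] [IsLocalRing A] [IsNoetherianRing A] [Algebra k A]
  [IsAdicComplete (maximalIdeal A) A] [Module.Finite k (ResidueField A)]

theorem finite_residueField_quotient (q : Ideal A) [IsLocalRing (A ⧸ q)] :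
    Module.Finite k (ResidueField (A ⧸ q)) := by
  have hloc : IsLocalHom (Ideal.Quotient.mk q) :=
    IsLocalHom.of_surjective _ Ideal.Quotient.mk_surjective
  let f : ResidueField A →ₗ[k] ResidueField (A ⧸ q) :=
    { toFun := ResidueField.map (Ideal.Quotient.mk q)
      map_add' := map_add _
      map_smul' := fun c x => by
        obtain ⟨x, rfl⟩ := IsLocalRing.residue_surjective x
        rw [RingHom.id_apply, Algebra.smul_def, map_mul, Algebra.smul_def]
        congr 1 }
  have hf : Function.Surjective f := by
    intro y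
    obtain ⟨y, rfl⟩ := IsLocalRing.residue_surjective y
    obtain ⟨a, rfl⟩ := Ideal.Quotient.mk_surjective y
    exact ⟨IsLocalRing.residue A a, ResidueField.map_residue _ a⟩
  exact Module.Finite.of_surjective f hf

theorem fibre_rank_ge (p q : Ideal A) [p.IsPrime] (hq : q ∈ minimalPrimes A) (hqp : q ≤ p) :
    ringKrullDim (A ⧸ q) ≤
      (Cardinal.toENat (Module.rank p.ResidueField
        (p.ResidueField ⊗[A] AdicCompletion (maximalIdeal A) (Ω[A⁄k]))) : WithBot ℕ∞) := by
  classical
  have hqprime : q.IsPrime := hq.1.1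
  have hloc : IsLocalRing (A ⧸ q) :=
    Groth.Agent.Lib.Helper85.isLocalRing_quotient q hqprime.ne_top
  have hmax : (maximalIdeal A).map (algebraMap A (A ⧸ q)) = maximalIdeal (A ⧸ q) :=
    Groth.Agent.Lib.Helper85.maximalIdeal_map_of_surjective _ Ideal.Quotient.mk_surjective
  have hcompl : IsAdicComplete (maximalIdeal (A ⧸ q)) (A ⧸ q) := by
    rw [← hmax]
    exact Groth.Agent.Lib.Helper44.isAdicComplete_quotient_ring (maximalIdeal A) q
  have hfin : Module.Finite k (ResidueField (A ⧸ q)) := finite_residueField_quotient k A q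
  obtain ⟨n, M', _, _, lam, hn, hM'fin, hlam, hrank⟩ := exists_finite_quotient k (A ⧸ q)
  let _ : Module A M' := Module.compHom M' (Ideal.Quotient.mk q)
  have htower : IsScalarTower A (A ⧸ q) M' :=
    IsScalarTower.of_algebraMap_smul fun _ _ => rfl
  have hfinA : Module.Finite A M' := Module.Finite.trans (A ⧸ q) M'
  let lam' : Ω[A⁄k] →ₗ[A] M' :=
    (lam.restrictScalars A) ∘ₗ (KaehlerDifferential.map k k A (A ⧸ q))
  have hlam' : Function.Surjective lam' :=
    hlam.comp (KaehlerDifferential.map_surjective_of_surjective k k A (A ⧸ q)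
      Ideal.Quotient.mk_surjective)
  have hM'compl : IsAdicComplete (maximalIdeal A) M' :=
    Groth.Agent.Lib.Helper75.CompletedModules.isAdicComplete_of_finite (A := A) (M := M')
  let Φ : AdicCompletion (maximalIdeal A) (Ω[A⁄k]) →ₗ[A] M' :=
    (AdicCompletion.ofLinearEquiv (maximalIdeal A) M').symm.toLinearMap ∘ₗ
      ((AdicCompletion.map (maximalIdeal A) lam').restrictScalars A)
  have hΦ : Function.Surjective Φ :=
    (AdicCompletion.ofLinearEquiv (maximalIdeal A) M').symm.surjective.comp
      (AdicCompletion.map_surjective (maximalIdeal A) hlam')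
  have hbc : Function.Surjective (LinearMap.baseChange p.ResidueField Φ) := by
    rw [LinearMap.baseChange_eq_ltensor]
    exact LinearMap.lTensor_surjective _ hΦ
  have h1 := LinearMap.rank_le_of_surjective (LinearMap.baseChange p.ResidueField Φ) hbc
  have h2 := finrank_fractionRing_quotient_le A q p hqp M'
  have h3 : (n : Cardinal) ≤ Module.rank p.ResidueField
      (p.ResidueField ⊗[A] AdicCompletion (maximalIdeal A) (Ω[A⁄k])) := by
    refine le_trans ?_ (h2.trans h1)
    exact_mod_cast hrank
  have h4 : (n : ℕ∞) ≤ Cardinal.toENat (Module.rank p.ResidueField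
      (p.ResidueField ⊗[A] AdicCompletion (maximalIdeal A) (Ω[A⁄k]))) := by
    have h5 : Cardinal.toENat (n : Cardinal) ≤ Cardinal.toENat (Module.rank p.ResidueField
        (p.ResidueField ⊗[A] AdicCompletion (maximalIdeal A) (Ω[A⁄k]))) :=
      OrderHomClass.mono Cardinal.toENat h3
    rwa [Cardinal.toENat_nat] at h5
  rw [← hn]
  exact_mod_cast h4

end Main

end Groth.Agent.Lib.Helper88.OmegaHat
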