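import Mathlib

/-!
# Perturbing a family into a system of parameters (helper88)

* `exists_add_notMem` : Davis' coset version of prime avoidance (copied from helper79's
  `GenRegPrefix` to avoid its heavy imports).
* `exists_perturb_sop` : in a Noetherian local ring of dimension `n`, any family `t_1..t_r ∈ 𝔪`
  (`r ≥ n`) can be modified by elements of an `𝔪`-primary ideal `J` so as to generate an
  `𝔪`-primary ideal.
-/

set_option autoImplicit false
set_option linter.unusedSectionVars false

universe u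

namespace Groth.Agent.Lib.Helper88.OmegaHat

open IsLocalRing

/-- Davis' prime avoidance for cosets. -/
theorem exists_add_notMem {R : Type*} [CommRing R] (n : ℕ) :
    ∀ (S : Finset (Ideal R)), S.card = n → (∀ P ∈ S, P.IsPrime) → ∀ (x : R) (I : Ideal R),
      (∀ P ∈ S, ¬ (Ideal.span {x} ⊔ I ≤ P)) → ∃ b ∈ I, ∀ P ∈ S, x + b ∉ P := by
  classical
  induction n with
  | zero =>
    intro S hS _ x I _
    rw [Finset.card_eq_zero] at hS
    subst hS
    exact ⟨0, I.zero_mem, by simp⟩
  | succ n ih =>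
    intro S hS hprime x I h
    have hne : S.Nonempty := by
      rw [← Finset.card_pos]; omega
    obtain ⟨P, hPS, hPmin⟩ := S.exists_minimal hne
    have hcard : (S.erase P).card = n := by
      rw [Finset.card_erase_of_mem hPS]; omega
    obtain ⟨b', hb'I, hb'⟩ := ih (S.erase P) hcard
      (fun Q hQ => hprime Q (Finset.mem_of_mem_erase hQ)) x I
      (fun Q hQ => h Q (Finset.mem_of_mem_erase hQ))
    by_cases hxP : x + b' ∈ P
    · have hPprime : P.IsPrime := hprime P hPS
      have hIP : ¬ I ≤ P := by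
        intro hle
        apply h P hPS
        refine sup_le ?_ hle
        rw [Ideal.span_singleton_le_iff_mem]
        have : x = (x + b') - b' := by ring
        rw [this]
        exact P.sub_mem hxP (hle hb'I)
      obtain ⟨y, hyI, hyP⟩ := Set.not_subset.mp hIP
      have hprod : ¬ (∏ Q ∈ S.erase P, Q) ≤ P := by
        intro hle
        obtain ⟨Q, hQ, hQP⟩ := (hPprime.prod_le).1 hle
        have hQS := Finset.mem_of_mem_erase hQ
        have hne : Q ≠ P := Finset.ne_of_mem_erase hQ
        exact hPmin hQS hQP |> fun hPQ => hne (le_antisymm hQP hPQ)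
      obtain ⟨z, hz, hzP⟩ := Set.not_subset.mp hprod
      have hzQ : ∀ Q ∈ S.erase P, z ∈ Q := by
        intro Q hQ
        have h1 : (∏ Q ∈ S.erase P, Q) ≤ (S.erase P).inf id := Ideal.prod_le_inf
        have h2 : (S.erase P).inf id ≤ id Q := Finset.inf_le hQ
        exact h2 (h1 hz)
      refine ⟨b' + y * z, I.add_mem hb'I (I.mul_mem_right z hyI), ?_⟩
      intro Q hQS hmem
      by_cases hQP : Q = P
      · subst hQP
        have h1 : y * z ∈ Q := by
          have : y * z = (x + (b' + y * z)) - (x + b') := by ring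
          rw [this]
          exact Q.sub_mem hmem hxP
        rcases hPprime.mem_or_mem h1 with h2 | h2
        · exact hyP h2
        · exact hzP h2
      · have hQ : Q ∈ S.erase P := Finset.mem_erase.mpr ⟨hQP, hQS⟩
        apply hb' Q hQ
        have : x + b' = (x + (b' + y * z)) - y * z := by ring
        rw [this]
        exact Q.sub_mem hmem (Q.mul_mem_left y (hzQ Q hQ))
    · refine ⟨b', hb'I, ?_⟩
      intro Q hQS
      by_cases hQP : Q = P
      · subst hQP; exact hxP
      · exact hb' Q (Finset.mem_erase.mpr ⟨hQP, hQS⟩)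

section Sop

variable (A : Type u) [CommRing A] [IsLocalRing A] [IsNoetherianRing A]

theorem exists_perturb_height (J : Ideal A)
    (hJ : ∀ 𝔓 : Ideal A, 𝔓.IsPrime → J ≤ 𝔓 → 𝔓 = maximalIdeal A)
    (n : ℕ) (hn : ringKrullDim A = n) (r : ℕ) (hr : n ≤ r) (t : Fin r → A) :
    ∀ j : ℕ, j ≤ n → ∃ t' : Fin r → A, (∀ i, t' i - t i ∈ J) ∧
      (j : ℕ∞) ≤ (Ideal.span (t' '' {i : Fin r | i.val < j})).height := by
  classical
  intro j
  induction j with
  | zero =>
    intro _
    refine ⟨t, fun i => by rw [sub_self]; exact J.zero_mem, ?_⟩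
    exact zero_le
  | succ j ih =>
    intro hj
    obtain ⟨t', ht', hheight⟩ := ih (by omega)
    set I := Ideal.span (t' '' {i : Fin r | i.val < j}) with hI
    let i₀ : Fin r := ⟨j, by omega⟩
    have hfin : I.minimalPrimes.Finite := Ideal.finite_minimalPrimes_of_isNoetherianRing A I
    let S : Finset (Ideal A) := hfin.toFinset.filter (fun 𝔓 => ¬ J ≤ 𝔓)
    have hSprime : ∀ 𝔓 ∈ S, 𝔓.IsPrime := by
      intro 𝔓 h𝔓
      have := (Finset.mem_filter.mp h𝔓).1
      rw [Set.Finite.mem_toFinset] at this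
      exact this.1.1
    have hSJ : ∀ 𝔓 ∈ S, ¬ (Ideal.span {t' i₀} ⊔ J ≤ 𝔓) := by
      intro 𝔓 h𝔓 hle
      exact (Finset.mem_filter.mp h𝔓).2 (le_sup_right.trans hle)
    obtain ⟨b, hbJ, hb⟩ := exists_add_notMem S.card S rfl hSprime (t' i₀) J hSJ
    refine ⟨Function.update t' i₀ (t' i₀ + b), ?_, ?_⟩
    · intro i
      by_cases hi : i = i₀
      · rw [hi, Function.update_self]
        have : t' i₀ + b - t i₀ = (t' i₀ - t i₀) + b := by ring
        rw [this]
        exact J.add_mem (ht' i₀) hbJ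
      · rw [Function.update_of_ne hi]
        exact ht' i
    · set I' := Ideal.span (Function.update t' i₀ (t' i₀ + b) '' {i : Fin r | i.val < j + 1})
        with hI'
      have hII' : I ≤ I' := by
        rw [hI, Ideal.span_le]
        rintro _ ⟨i, hi, rfl⟩
        have hne : i ≠ i₀ := by
          intro h
          rw [h] at hi
          exact lt_irrefl j hi
        refine Ideal.subset_span ⟨i, ?_, ?_⟩
        · exact Nat.lt_succ_of_lt hi
        · rw [Function.update_of_ne hne]
      have hmem : t' i₀ + b ∈ I' := by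
        refine Ideal.subset_span ⟨i₀, ?_, ?_⟩
        · exact Nat.lt_succ_self j
        · rw [Function.update_self]
      rw [Ideal.height_eq_inf_minimalPrimes]
      refine le_iInf₂ fun 𝔓' h𝔓' => ?_
      have h𝔓'prime : 𝔓'.IsPrime := h𝔓'.1.1
      have hI𝔓' : I ≤ 𝔓' := hII'.trans h𝔓'.1.2
      obtain ⟨𝔓, h𝔓min, h𝔓le⟩ := Ideal.exists_minimalPrimes_le hI𝔓'
      have h𝔓prime : 𝔓.IsPrime := h𝔓min.1.1
      have hj𝔓 : (j : ℕ∞) ≤ 𝔓.height := by
        rw [Ideal.height_eq_inf_minimalPrimes] at hheight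
        exact hheight.trans (iInf₂_le 𝔓 h𝔓min)
      by_cases hJ𝔓 : J ≤ 𝔓
      · have h1 : 𝔓 = maximalIdeal A := hJ 𝔓 h𝔓prime hJ𝔓
        have h2 : 𝔓' = maximalIdeal A := by
          apply le_antisymm (IsLocalRing.le_maximalIdeal h𝔓'prime.ne_top)
          rw [← h1]; exact h𝔓le
        rw [h2]
        have h3 : ((maximalIdeal A).height : WithBot ℕ∞) = (n : WithBot ℕ∞) := by
          rw [IsLocalRing.maximalIdeal_height_eq_ringKrullDim, hn]
        have h4 : (maximalIdeal A).height = (n : ℕ∞) := by exact_mod_cast h3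
        rw [h4]
        exact_mod_cast hj
      · have h𝔓S : 𝔓 ∈ S := by
          refine Finset.mem_filter.mpr ⟨?_, hJ𝔓⟩
          rw [Set.Finite.mem_toFinset]
          exact h𝔓min
        have hnot : t' i₀ + b ∉ 𝔓 := hb 𝔓 h𝔓S
        have hlt : 𝔓 < 𝔓' := by
          refine lt_of_le_of_ne h𝔓le ?_
          intro h
          apply hnot
          rw [h]
          exact h𝔓'.1.2 hmem
        have h5 := Ideal.height_add_one_le_of_lt_of_isPrime hlt
        calc ((j + 1 : ℕ) : ℕ∞) = (j : ℕ∞) + 1 := by push_cast; rfl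
          _ ≤ 𝔓.height + 1 := by gcongr
          _ ≤ 𝔓'.height := h5

theorem exists_perturb_sop (J : Ideal A)
    (hJ : ∀ 𝔓 : Ideal A, 𝔓.IsPrime → J ≤ 𝔓 → 𝔓 = maximalIdeal A)
    (n : ℕ) (hn : ringKrullDim A = n) (r : ℕ) (hr : n ≤ r) (t : Fin r → A) :
    ∃ t' : Fin r → A, (∀ i, t' i - t i ∈ J) ∧
      ∀ 𝔓 : Ideal A, 𝔓.IsPrime → Ideal.span (Set.range t') ≤ 𝔓 → 𝔓 = maximalIdeal A := by
  obtain ⟨t', ht', hheight⟩ := exists_perturb_height A J hJ n hn r hr t n le_rfl
  refine ⟨t', ht', fun 𝔓 h𝔓 hle => ?_⟩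
  have h1 : Ideal.span (t' '' {i : Fin r | i.val < n}) ≤ 𝔓 :=
    (Ideal.span_mono (Set.image_subset_range _ _)).trans hle
  have h2 : (n : ℕ∞) ≤ 𝔓.height := hheight.trans (Ideal.height_mono h1)
  have hfd : FiniteRingKrullDim A := inferInstance
  apply Ideal.height_eq_ringKrullDim_iff.mp
  apply le_antisymm Ideal.height_le_ringKrullDim_of_isPrime
  rw [hn]
  exact_mod_cast h2

end Sop

end Groth.Agent.Lib.Helper88.OmegaHat
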