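import Mathlib

/-!
# Adic openness of linear independence in a fibre (helper88)

`A` Noetherian local, `p` a prime, `M` a finite `A`-module, `K = κ(p)`.  If `1 ⊗ v_1, …, 1 ⊗ v_r` are
linearly independent in `K ⊗ M`, the same holds for every family `v'` with
`v'_i - v_i ∈ 𝔪^N M`, for `N` large (`exists_pow_forall_linearIndependent`).
-/

set_option autoImplicit false
set_option linter.unusedSectionVars false

universe u

namespace Groth.Agent.Lib.Helper88.OmegaHat

open IsLocalRing TensorProduct

section Denominators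

variable {A : Type u} [CommRing A] (p : Ideal A) [p.IsPrime]

/-- every element of the residue field at `p` has a denominator outside `p` -/
theorem exists_denominator (x : p.ResidueField) :
    ∃ b ∉ p, ∃ a : A, algebraMap A p.ResidueField b * x = algebraMap A p.ResidueField a := by
  obtain ⟨z, rfl⟩ := IsLocalRing.residue_surjective x
  obtain ⟨⟨a, b⟩, hab⟩ := IsLocalization.surj p.primeCompl z
  refine ⟨b.1, b.2, a, ?_⟩
  rw [IsScalarTower.algebraMap_apply A (Localization.AtPrime p) p.ResidueField,
    IsScalarTower.algebraMap_apply A (Localization.AtPrime p) p.ResidueField, ← hab, mul_comm,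
    map_mul]
  rfl

variable {M : Type u} [AddCommGroup M] [Module A M]

/-- a common denominator for the values of a functional on a finitely generated submodule -/
theorem exists_denominator_span (g : M →ₗ[A] p.ResidueField) (T : Finset M) :
    ∃ c ∉ p, ∀ y ∈ Submodule.span A (T : Set M), ∃ a : A,
      algebraMap A p.ResidueField c * g y = algebraMap A p.ResidueField a := by
  classical
  induction T using Finset.induction_on with
  | empty =>
    refine ⟨1, fun h => (inferInstance : p.IsPrime).ne_top ((Ideal.eq_top_iff_one p).mpr h), ?_⟩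
    intro y hy
    rw [Finset.coe_empty, Submodule.span_empty, Submodule.mem_bot] at hy
    exact ⟨0, by rw [hy, map_zero, map_zero, mul_zero]⟩
  | insert y₀ T _ ih =>
    obtain ⟨c₁, hc₁, h₁⟩ := ih
    obtain ⟨b, hb, a₀, ha₀⟩ := exists_denominator p (g y₀)
    refine ⟨c₁ * b, fun h => ((inferInstance : p.IsPrime).mem_or_mem h).elim hc₁ hb, ?_⟩
    intro y hy
    rw [Finset.coe_insert, Submodule.mem_span_insert] at hy
    obtain ⟨μ, z, hz, rfl⟩ := hy
    obtain ⟨az, haz⟩ := h₁ z hz
    refine ⟨c₁ * μ * a₀ + b * az, ?_⟩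
    rw [map_add, map_smul, Algebra.smul_def, map_add, map_mul, map_mul, map_mul,
      map_mul, ← ha₀, ← haz]
    ring

theorem exists_denominator_of_finite [Module.Finite A M] (g : M →ₗ[A] p.ResidueField) :
    ∃ c ∉ p, ∀ y : M, ∃ a : A,
      algebraMap A p.ResidueField c * g y = algebraMap A p.ResidueField a := by
  obtain ⟨T, hT⟩ := (Module.Finite.fg_top : (⊤ : Submodule A M).FG)
  obtain ⟨c, hc, h⟩ := exists_denominator_span p g T
  exact ⟨c, hc, fun y => h y (by rw [hT]; trivial)⟩

theorem exists_denominator_pi [Module.Finite A M] {r : ℕ}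
    (G : M →ₗ[A] (Fin r → p.ResidueField)) :
    ∃ c ∉ p, ∀ (y : M) (j : Fin r), ∃ a : A,
      algebraMap A p.ResidueField c * G y j = algebraMap A p.ResidueField a := by
  classical
  have h : ∀ j : Fin r, ∃ c ∉ p, ∀ y : M, ∃ a : A,
      algebraMap A p.ResidueField c * G y j = algebraMap A p.ResidueField a := fun j =>
    exists_denominator_of_finite p ((LinearMap.proj j) ∘ₗ G)
  choose c hc hca using h
  refine ⟨∏ j, c j, ?_, ?_⟩
  · intro hmem
    obtain ⟨j, -, hj⟩ := ((inferInstance : p.IsPrime).prod_mem_iff).mp hmem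
    exact hc j hj
  · intro y j
    obtain ⟨a, ha⟩ := hca j y
    refine ⟨(∏ i ∈ Finset.univ.erase j, c i) * a, ?_⟩
    rw [← Finset.prod_erase_mul Finset.univ c (Finset.mem_univ j), map_mul, map_mul, mul_assoc, ha]

end Denominators

section Perturb

variable {A : Type u} [CommRing A] [IsLocalRing A] [IsNoetherianRing A] (p : Ideal A) [p.IsPrime]
  {M : Type u} [AddCommGroup M] [Module A M] [Module.Finite A M]

omit [IsLocalRing A] [IsNoetherianRing A] [Module.Finite A M] in
theorem exists_mem_pow_of_mem_smul_top {r : ℕ} (G : M →ₗ[A] (Fin r → p.ResidueField)) (c : A)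
    (hc : ∀ (y : M) (j : Fin r), ∃ a : A,
      algebraMap A p.ResidueField c * G y j = algebraMap A p.ResidueField a)
    (I : Ideal A) (w : M) (hw : w ∈ (I • ⊤ : Submodule A M)) (j : Fin r) :
    ∃ ε ∈ I, algebraMap A p.ResidueField ε = algebraMap A p.ResidueField c * G w j := by
  induction hw using Submodule.smul_induction_on' with
  | smul μ hμ y _ =>
    obtain ⟨a, ha⟩ := hc y j
    refine ⟨μ * a, I.mul_mem_right a hμ, ?_⟩
    rw [map_smul, Pi.smul_apply, Algebra.smul_def, map_mul, ← ha]
    ring
  | add x _ y _ hx hy =>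
    obtain ⟨ε₁, h₁, h₁'⟩ := hx
    obtain ⟨ε₂, h₂, h₂'⟩ := hy
    refine ⟨ε₁ + ε₂, I.add_mem h₁ h₂, ?_⟩
    rw [map_add, map_add, Pi.add_apply, h₁', h₂', mul_add]

theorem exists_pow_notMem_sup (c : A) (hc : c ∉ p) : ∃ N : ℕ, c ∉ p ⊔ maximalIdeal A ^ N := by
  by_contra hcon
  push Not at hcon
  have hH : IsHausdorff (maximalIdeal A) (A ⧸ p) := inferInstance
  have h0 : (Ideal.Quotient.mk p c : A ⧸ p) = 0 := by
    apply hH.haus
    intro N
    rw [SModEq.zero]
    obtain ⟨π, hπ, μ, hμ, hsum⟩ := Submodule.mem_sup.mp (hcon N)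
    have h1 : (Ideal.Quotient.mk p c : A ⧸ p) = μ • (1 : A ⧸ p) := by
      rw [← hsum, map_add, Ideal.Quotient.eq_zero_iff_mem.mpr hπ, zero_add, Algebra.smul_def,
        mul_one]
      rfl
    rw [h1]
    exact Submodule.smul_mem_smul hμ trivial
  exact hc (Ideal.Quotient.eq_zero_iff_mem.mp h0)

theorem exists_pow_forall_linearIndependent {r : ℕ} (v : Fin r → M)
    (hv : LinearIndependent p.ResidueField (fun i => (1 : p.ResidueField) ⊗ₜ[A] v i)) :
    ∃ N : ℕ, ∀ v' : Fin r → M,
      (∀ i, v' i - v i ∈ (maximalIdeal A ^ N • ⊤ : Submodule A M)) →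
      LinearIndependent p.ResidueField (fun i => (1 : p.ResidueField) ⊗ₜ[A] v' i) := by
  classical
  -- left inverse of the span map
  have hinj : Function.Injective (Fintype.linearCombination p.ResidueField
      (fun i => (1 : p.ResidueField) ⊗ₜ[A] v i)) :=
    linearIndependent_iff_injective_fintypeLinearCombination.mp hv
  obtain ⟨G₀, hG₀⟩ := LinearMap.exists_leftInverse_of_injective _ (LinearMap.ker_eq_bot.mpr hinj)
  let G : M →ₗ[A] (Fin r → p.ResidueField) :=
    (G₀.restrictScalars A) ∘ₗ (TensorProduct.mk A p.ResidueField M 1)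
  have hG_apply : ∀ y : M, G y = G₀ ((1 : p.ResidueField) ⊗ₜ[A] y) := fun y => rfl
  have hGv : ∀ l, G (v l) = Pi.single l (1 : p.ResidueField) := by
    intro l
    have h1 := LinearMap.congr_fun hG₀ (Pi.single l (1 : p.ResidueField))
    rw [LinearMap.comp_apply, Fintype.linearCombination_apply_single, one_smul,
      LinearMap.id_apply] at h1
    rw [hG_apply, h1]
  obtain ⟨c, hcp, hc⟩ := exists_denominator_pi p G
  have hcr : c ^ r ∉ p := fun h => hcp ((inferInstance : p.IsPrime).mem_of_pow_mem r h)
  obtain ⟨N, hN⟩ := exists_pow_notMem_sup p (c ^ r) hcr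
  refine ⟨N, fun v' hv' => ?_⟩
  -- the error terms
  have hε : ∀ (j l : Fin r), ∃ ε ∈ maximalIdeal A ^ N,
      algebraMap A p.ResidueField ε = algebraMap A p.ResidueField c * G (v' l - v l) j :=
    fun j l => exists_mem_pow_of_mem_smul_top p G c hc _ _ (hv' l) j
  choose ε hεmem hεeq using hε
  let X : Matrix (Fin r) (Fin r) A := fun j l => (if j = l then c else 0) + ε j l
  -- determinant of X modulo 𝔪^N
  have hXdet : X.det - c ^ r ∈ maximalIdeal A ^ N := by
    rw [← Ideal.Quotient.eq, RingHom.map_det, map_pow]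
    have hXmap : (Ideal.Quotient.mk (maximalIdeal A ^ N)).mapMatrix X =
        Matrix.diagonal (fun _ => Ideal.Quotient.mk (maximalIdeal A ^ N) c) := by
      ext j l
      rw [RingHom.mapMatrix_apply, Matrix.map_apply, Matrix.diagonal_apply]
      change Ideal.Quotient.mk _ ((if j = l then c else 0) + ε j l) = _
      rw [map_add, Ideal.Quotient.eq_zero_iff_mem.mpr (hεmem j l), add_zero]
      split_ifs
      · rfl
      · rw [map_zero]
    rw [hXmap, Matrix.det_diagonal, Finset.prod_const, Finset.card_univ, Fintype.card_fin]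
  have hXp : X.det ∉ p := by
    intro h
    apply hN
    have : c ^ r = X.det - (X.det - c ^ r) := by ring
    rw [this]
    exact Submodule.sub_mem _ (Submodule.mem_sup_left h) (Submodule.mem_sup_right hXdet)
  -- the matrix of G (v' l)
  let Mx : Matrix (Fin r) (Fin r) p.ResidueField := fun j l => G (v' l) j
  have hMx : (algebraMap A p.ResidueField c) • Mx = (algebraMap A p.ResidueField).mapMatrix X := by
    ext j l
    rw [Matrix.smul_apply, RingHom.mapMatrix_apply, Matrix.map_apply, smul_eq_mul]
    change algebraMap A p.ResidueField c * G (v' l) j =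
      algebraMap A p.ResidueField ((if j = l then c else 0) + ε j l)
    have h1 : v' l = v l + (v' l - v l) := by abel
    rw [h1, map_add, Pi.add_apply, mul_add, ← hεeq, hGv, map_add]
    congr 1
    by_cases hjl : j = l
    · rw [if_pos hjl, hjl, Pi.single_eq_same, mul_one]
    · rw [if_neg hjl, Pi.single_eq_of_ne hjl, mul_zero, map_zero]
  have hdet : Mx.det ≠ 0 := by
    intro h0
    have h1 : ((algebraMap A p.ResidueField c) • Mx).det = 0 := by
      rw [Matrix.det_smul, h0, mul_zero]
    rw [hMx, ← RingHom.map_det, Ideal.algebraMap_residueField_eq_zero] at h1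
    exact hXp h1
  rw [Fintype.linearIndependent_iff]
  intro g hg
  have h1 : Mx.mulVec g = 0 := by
    have h2 := congrArg G₀ hg
    rw [map_sum, map_zero] at h2
    funext j
    have h3 := congrFun h2 j
    rw [Finset.sum_apply, Pi.zero_apply] at h3
    rw [Matrix.mulVec, Pi.zero_apply, ← h3]
    unfold dotProduct
    refine Finset.sum_congr rfl fun l _ => ?_
    rw [map_smul, Pi.smul_apply, smul_eq_mul, mul_comm]
    rfl
  have h4 := Matrix.eq_zero_of_mulVec_eq_zero hdet h1
  intro l
  exact congrFun h4 l

end Perturb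

end Groth.Agent.Lib.Helper88.OmegaHat
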