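import Mathlib
import Groth.Agent.Lib.Helper88.OmegaHat.ExactSeq
import Groth.Agent.Lib.Helper88.OmegaHat.SopPerturb
import Groth.Agent.Lib.Helper88.OmegaHat.SpanPerturb
import Groth.Agent.Lib.Helper88.OmegaHat.FibreRank

/-!
# Generators of `(Ω̂_{A/k})_p` and finite maps `k[[T_1..T_m]] → A` unramified at `p` (helper88)
-/

set_option autoImplicit false
set_option linter.unusedSectionVars false

universe u

namespace Groth.Agent.Lib.Helper88.OmegaHat

open MvPowerSeries TensorProduct IsLocalRing

section FibreSpan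

variable {A : Type u} [CommRing A] (p : Ideal A) [p.IsPrime]
  (M : Type u) [AddCommGroup M] [Module A M]

/-- the fibre at `p` as a base change of the localization -/
noncomputable def fibreEquiv :
    p.ResidueField ⊗[Localization.AtPrime p] (LocalizedModule p.primeCompl M) ≃ₗ[p.ResidueField]
      p.ResidueField ⊗[A] M :=
  (TensorProduct.AlgebraTensorModule.congr (LinearEquiv.refl p.ResidueField p.ResidueField)
    (LocalizedModule.isBaseChange p.primeCompl M).equiv.symm) ≪≫ₗ
    TensorProduct.AlgebraTensorModule.cancelBaseChange A (Localization.AtPrime p) p.ResidueField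
      p.ResidueField M

theorem finrank_fibre_le_of_span_localized [Module.Finite A M] (m : ℕ)
    (s : Fin m → LocalizedModule p.primeCompl M)
    (hs : Submodule.span (Localization.AtPrime p) (Set.range s) = ⊤) :
    Module.finrank p.ResidueField (p.ResidueField ⊗[A] M) ≤ m := by
  classical
  rw [← (fibreEquiv p M).finrank_eq]
  have hspan : Submodule.span p.ResidueField (Set.range fun j =>
      (1 : p.ResidueField) ⊗ₜ[Localization.AtPrime p] s j) = ⊤ := by
    rw [eq_top_iff]
    rintro z -
    induction z using TensorProduct.induction_on with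
    | zero => exact Submodule.zero_mem _
    | add x y hx hy => exact Submodule.add_mem _ hx hy
    | tmul c y =>
      have hy : y ∈ Submodule.span (Localization.AtPrime p) (Set.range s) := by rw [hs]; trivial
      induction hy using Submodule.span_induction with
      | mem x hx =>
        obtain ⟨j, rfl⟩ := hx
        have : c ⊗ₜ[Localization.AtPrime p] s j =
            c • ((1 : p.ResidueField) ⊗ₜ[Localization.AtPrime p] s j) := by
          rw [TensorProduct.smul_tmul', smul_eq_mul, mul_one]
        rw [this]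
        exact Submodule.smul_mem _ _ (Submodule.subset_span ⟨j, rfl⟩)
      | zero => rw [TensorProduct.tmul_zero]; exact Submodule.zero_mem _
      | add x y _ _ hx hy => rw [TensorProduct.tmul_add]; exact Submodule.add_mem _ hx hy
      | smul a x _ hx =>
        rw [← TensorProduct.smul_tmul]
        have h1 : (a • c) ⊗ₜ[Localization.AtPrime p] x =
            (algebraMap (Localization.AtPrime p) p.ResidueField a) •
              (c ⊗ₜ[Localization.AtPrime p] x) := by
          rw [TensorProduct.smul_tmul', smul_eq_mul, Algebra.smul_def]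
        rw [h1]
        exact Submodule.smul_mem _ _ hx
  have h1 := finrank_range_le_card (R := p.ResidueField) (fun j =>
      (1 : p.ResidueField) ⊗ₜ[Localization.AtPrime p] s j)
  rw [Set.finrank, hspan, finrank_top, Fintype.card_fin] at h1
  exact h1

end FibreSpan

section Basis

variable (k A : Type u) [Field k] [CommRing A] [IsLocalRing A] [IsNoetherianRing A] [Algebra k A]
  [IsAdicComplete (maximalIdeal A) A] [Module.Finite k (ResidueField A)]

/-- the completed differential `d̂ a` -/
noncomputable def dHat (a : A) : AdicCompletion (maximalIdeal A) (Ω[A⁄k]) :=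
  AdicCompletion.of (maximalIdeal A) (Ω[A⁄k]) (KaehlerDifferential.D k A a)

omit [IsLocalRing A] [IsNoetherianRing A] [IsAdicComplete (maximalIdeal A) A] in
theorem dHat_add [IsLocalRing A] (a b : A) : dHat k A (a + b) = dHat k A a + dHat k A b := by
  unfold dHat
  rw [map_add, map_add]

omit [IsLocalRing A] [IsNoetherianRing A] [IsAdicComplete (maximalIdeal A) A] in
theorem dHat_sub [IsLocalRing A] (a b : A) : dHat k A (a - b) = dHat k A a - dHat k A b := by
  unfold dHat
  rw [map_sub, map_sub]

omit [IsLocalRing A] [IsNoetherianRing A] [IsAdicComplete (maximalIdeal A) A] in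
theorem dHat_mul [IsLocalRing A] (a b : A) :
    dHat k A (a * b) = a • dHat k A b + b • dHat k A a := by
  unfold dHat
  rw [Derivation.leibniz, map_add, map_smul, map_smul]

theorem dHat_mem_pow_smul_top (N : ℕ) (ε : A) (hε : ε ∈ maximalIdeal A ^ (N + 1)) :
    dHat k A ε ∈ (maximalIdeal A ^ N • ⊤ :
      Submodule A (AdicCompletion (maximalIdeal A) (Ω[A⁄k]))) :=
  of_mem_pow_smul_top (maximalIdeal A) (Ω[A⁄k]) N _
    (Groth.Agent.S2477.Aux.deriv_pow_mem (KaehlerDifferential.D k A) (maximalIdeal A) N ε hε)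

/-- `Ω̂` is generated by the `d̂ a` -/
theorem span_range_dHat :
    Submodule.span A (Set.range (dHat k A)) = ⊤ := by
  have hfin := finite_omegaHat' k A
  have hmfg : (maximalIdeal A).FG := (isNoetherianRing_iff_ideal_fg A).mp inferInstance _
  rw [eq_top_iff]
  refine Submodule.le_of_le_smul_of_le_jacobson_bot Module.Finite.fg_top
    (IsLocalRing.maximalIdeal_le_jacobson ⊥) ?_
  have hof : ∀ ω : Ω[A⁄k], AdicCompletion.of (maximalIdeal A) (Ω[A⁄k]) ω ∈
      Submodule.span A (Set.range (dHat k A)) := by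
    intro ω
    have hω' : ω ∈ Submodule.span A (Set.range (KaehlerDifferential.D k A)) := by
      rw [KaehlerDifferential.span_range_derivation]; trivial
    induction hω' using Submodule.span_induction with
    | mem x hx =>
      obtain ⟨a, rfl⟩ := hx
      exact Submodule.subset_span ⟨a, rfl⟩
    | zero => rw [map_zero]; exact Submodule.zero_mem _
    | add x y _ _ hx hy => rw [map_add]; exact Submodule.add_mem _ hx hy
    | smul a x _ hx => rw [map_smul]; exact Submodule.smul_mem _ _ hx
  rintro y -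
  obtain ⟨ω, hω⟩ := exists_of_sub_mem (maximalIdeal A) (Ω[A⁄k]) hmfg y 1
  rw [pow_one] at hω
  have h1 := hof ω
  have h2 : y = AdicCompletion.of (maximalIdeal A) (Ω[A⁄k]) ω +
      (y - AdicCompletion.of (maximalIdeal A) (Ω[A⁄k]) ω) := by abel
  rw [h2]
  exact Submodule.add_mem _ (Submodule.mem_sup_left h1) (Submodule.mem_sup_right hω)

variable (p : Ideal A) [p.IsPrime]

/-- the fibre of `Ω̂` at `p` is spanned by the `1 ⊗ d̂ t`, `t ∈ 𝔪` -/
theorem span_one_tmul_dHat (hp : p ≠ maximalIdeal A) :
    Submodule.span p.ResidueField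
      {w : p.ResidueField ⊗[A] AdicCompletion (maximalIdeal A) (Ω[A⁄k]) |
        ∃ t ∈ maximalIdeal A, w = (1 : p.ResidueField) ⊗ₜ[A] dHat k A t} = ⊤ := by
  set W := Submodule.span p.ResidueField
      {w : p.ResidueField ⊗[A] AdicCompletion (maximalIdeal A) (Ω[A⁄k]) |
        ∃ t ∈ maximalIdeal A, w = (1 : p.ResidueField) ⊗ₜ[A] dHat k A t} with hW
  have hlt : p < maximalIdeal A :=
    lt_of_le_of_ne (IsLocalRing.le_maximalIdeal (inferInstance : p.IsPrime).ne_top) hp
  obtain ⟨x, hxm, hxp⟩ := SetLike.exists_of_lt hlt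
  have hx0 : algebraMap A p.ResidueField x ≠ 0 := by
    rw [Ne, Ideal.algebraMap_residueField_eq_zero]
    exact hxp
  have hmem : ∀ t ∈ maximalIdeal A, (1 : p.ResidueField) ⊗ₜ[A] dHat k A t ∈ W :=
    fun t ht => Submodule.subset_span ⟨t, ht, rfl⟩
  have hsmul : ∀ (a : A) (y : AdicCompletion (maximalIdeal A) (Ω[A⁄k])),
      (1 : p.ResidueField) ⊗ₜ[A] (a • y) =
        algebraMap A p.ResidueField a • ((1 : p.ResidueField) ⊗ₜ[A] y) := by
    intro a y
    rw [TensorProduct.tmul_smul, algebraMap_smul]
  have hD : ∀ a : A, (1 : p.ResidueField) ⊗ₜ[A] dHat k A a ∈ W := by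
    intro a
    have h1 : x • dHat k A a = dHat k A (x * a) - a • dHat k A x := by
      rw [dHat_mul]; abel
    have h2 : algebraMap A p.ResidueField x • ((1 : p.ResidueField) ⊗ₜ[A] dHat k A a) ∈ W := by
      rw [← hsmul, h1, TensorProduct.tmul_sub, hsmul]
      exact Submodule.sub_mem _ (hmem _ (Ideal.mul_mem_right a _ hxm))
        (Submodule.smul_mem _ _ (hmem x hxm))
    have h3 := Submodule.smul_mem W (algebraMap A p.ResidueField x)⁻¹ h2
    rwa [smul_smul, inv_mul_cancel₀ hx0, one_smul] at h3
  have hall : ∀ y : AdicCompletion (maximalIdeal A) (Ω[A⁄k]),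
      (1 : p.ResidueField) ⊗ₜ[A] y ∈ W := by
    intro y
    have hy : y ∈ Submodule.span A (Set.range (dHat k A)) := by
      rw [span_range_dHat]; trivial
    induction hy using Submodule.span_induction with
    | mem z hz =>
      obtain ⟨a, rfl⟩ := hz
      exact hD a
    | zero => rw [TensorProduct.tmul_zero]; exact Submodule.zero_mem _
    | add x y _ _ hx hy => rw [TensorProduct.tmul_add]; exact Submodule.add_mem _ hx hy
    | smul a z _ hz => rw [hsmul]; exact Submodule.smul_mem _ _ hz
  rw [eq_top_iff]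
  rintro z -
  induction z using TensorProduct.induction_on with
  | zero => exact Submodule.zero_mem _
  | add x y hx hy => exact Submodule.add_mem _ hx hy
  | tmul c y =>
    have : c ⊗ₜ[A] y = c • ((1 : p.ResidueField) ⊗ₜ[A] y) := by
      rw [TensorProduct.smul_tmul', smul_eq_mul, mul_one]
    rw [this]
    exact Submodule.smul_mem _ _ (hall y)

theorem exists_basis_dHat (hp : p ≠ maximalIdeal A) :
    ∃ t : Fin (Module.finrank p.ResidueField
        (p.ResidueField ⊗[A] AdicCompletion (maximalIdeal A) (Ω[A⁄k]))) → A,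
      (∀ i, t i ∈ maximalIdeal A) ∧
      LinearIndependent p.ResidueField (fun i => (1 : p.ResidueField) ⊗ₜ[A] dHat k A (t i)) := by
  classical
  have hfin := finite_omegaHat' k A
  obtain ⟨b, hbS, hbspan, hbli⟩ := exists_linearIndependent p.ResidueField
    {w : p.ResidueField ⊗[A] AdicCompletion (maximalIdeal A) (Ω[A⁄k]) |
      ∃ t ∈ maximalIdeal A, w = (1 : p.ResidueField) ⊗ₜ[A] dHat k A t}
  rw [span_one_tmul_dHat k A p hp] at hbspan
  have hbfin : b.Finite := hbli.setFinite
  have : Fintype b := hbfin.fintype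
  let B : Module.Basis b p.ResidueField
      (p.ResidueField ⊗[A] AdicCompletion (maximalIdeal A) (Ω[A⁄k])) :=
    Module.Basis.mk hbli (by rw [Subtype.range_coe_subtype, Set.ofPred_mem_eq, hbspan])
  have hcard : Fintype.card b = Module.finrank p.ResidueField
      (p.ResidueField ⊗[A] AdicCompletion (maximalIdeal A) (Ω[A⁄k])) :=
    (Module.finrank_eq_card_basis B).symm
  let e : Fin (Module.finrank p.ResidueField
      (p.ResidueField ⊗[A] AdicCompletion (maximalIdeal A) (Ω[A⁄k]))) ≃ b :=
    (Fintype.equivFinOfCardEq hcard).symm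
  have hchoose : ∀ w : b, ∃ t ∈ maximalIdeal A,
      (w : p.ResidueField ⊗[A] AdicCompletion (maximalIdeal A) (Ω[A⁄k])) =
        (1 : p.ResidueField) ⊗ₜ[A] dHat k A t := fun w => hbS w.2
  choose τ hτm hτ using hchoose
  refine ⟨fun i => τ (e i), fun i => hτm (e i), ?_⟩
  have h1 : (fun i => (1 : p.ResidueField) ⊗ₜ[A] dHat k A (τ (e i))) =
      ((↑) : b → p.ResidueField ⊗[A] AdicCompletion (maximalIdeal A) (Ω[A⁄k])) ∘ e := by
    funext i
    exact (hτ (e i)).symm
  rw [h1]
  exact hbli.comp e e.injective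

end Basis

section Main

variable (k A : Type u) [Field k] [CommRing A] [IsLocalRing A] [IsNoetherianRing A] [Algebra k A]
  [IsAdicComplete (maximalIdeal A) A] [Module.Finite k (ResidueField A)]
  (p : Ideal A) [p.IsPrime]

/-- the algebra structure given by a finite evaluation map, with the properties we need -/
theorem exists_algebra_of_family (m : ℕ) (x : Fin m → A) (hx : ∀ i, x i ∈ maximalIdeal A)
    (hprim : ∀ 𝔓 : Ideal A, 𝔓.IsPrime → Ideal.span (Set.range x) ≤ 𝔓 → 𝔓 = maximalIdeal A) :
    ∃ (_ : Algebra (MvPowerSeries (Fin m) k) A) (_ : IsScalarTower k (MvPowerSeries (Fin m) k) A),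
      IsLocalHom (algebraMap (MvPowerSeries (Fin m) k) A) ∧
      Module.Finite (MvPowerSeries (Fin m) k) A ∧
      ∀ i, algebraMap (MvPowerSeries (Fin m) k) A (X i) = x i := by
  obtain ⟨φ, hφX, hφfin⟩ := exists_finite_eval k A m x hx hprim
  let a1 : Algebra (MvPowerSeries (Fin m) k) A := φ.toRingHom.toAlgebra
  have t1 : IsScalarTower k (MvPowerSeries (Fin m) k) A :=
    IsScalarTower.of_algebraMap_eq (fun c => (φ.commutes c).symm)
  have hfin : Module.Finite (MvPowerSeries (Fin m) k) A := hφfin
  refine ⟨a1, t1, ?_, hfin, hφX⟩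
  have hint : Algebra.IsIntegral (MvPowerSeries (Fin m) k) A := inferInstance
  have hmax : ((maximalIdeal A).comap (algebraMap (MvPowerSeries (Fin m) k) A)).IsMaximal :=
    Ideal.isMaximal_comap_of_isIntegral_of_isMaximal (maximalIdeal A)
  refine ((local_hom_TFAE (algebraMap (MvPowerSeries (Fin m) k) A)).out 3 0).mp ?_
  rw [IsLocalRing.eq_maximalIdeal hmax]

theorem exists_unramified (hp : p ≠ maximalIdeal A)
    (hq : ∃ q ∈ minimalPrimes A, q ≤ p ∧ ringKrullDim (A ⧸ q) = ringKrullDim A) (m : ℕ)
    (hm : Module.finrank p.ResidueField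
      (p.ResidueField ⊗[A] AdicCompletion (maximalIdeal A) (Ω[A⁄k])) ≤ m) :
    ∃ (_ : Algebra (MvPowerSeries (Fin m) k) A) (_ : IsScalarTower k (MvPowerSeries (Fin m) k) A),
      IsLocalHom (algebraMap (MvPowerSeries (Fin m) k) A) ∧
      Module.Finite (MvPowerSeries (Fin m) k) A ∧
      Algebra.IsUnramifiedAt (MvPowerSeries (Fin m) k) p := by
  classical
  have hfinΩ := finite_omegaHat' k A
  set r := Module.finrank p.ResidueField
      (p.ResidueField ⊗[A] AdicCompletion (maximalIdeal A) (Ω[A⁄k])) with hr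
  obtain ⟨t, ht, hli⟩ := exists_basis_dHat k A p hp
  -- dimension bound
  obtain ⟨n, -, hn, -, -⟩ := Groth.Agent.Lib.Helper48.exists_sop A
  obtain ⟨q, hqmin, hqp, hqdim⟩ := hq
  have hnr : n ≤ r := by
    have h1 := fibre_rank_ge k A p q hqmin hqp
    rw [hqdim, ← hn, ← Module.finrank_eq_rank, Cardinal.toENat_nat] at h1
    exact_mod_cast h1
  -- openness
  obtain ⟨N, hN⟩ := exists_pow_forall_linearIndependent p (fun i => dHat k A (t i)) hli
  have hJ : ∀ 𝔓 : Ideal A, 𝔓.IsPrime → maximalIdeal A ^ (N + 1) ≤ 𝔓 → 𝔓 = maximalIdeal A := by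
    intro 𝔓 h𝔓 hle
    exact ((IsLocalRing.maximalIdeal.isMaximal A).eq_of_le h𝔓.ne_top
      (h𝔓.le_of_pow_le hle)).symm
  obtain ⟨t', ht', hprim'⟩ :=
    exists_perturb_sop A (maximalIdeal A ^ (N + 1)) hJ n hn.symm r hnr t
  have ht'm : ∀ i, t' i ∈ maximalIdeal A := by
    intro i
    have h1 : t' i = t i + (t' i - t i) := by ring
    rw [h1]
    exact Ideal.add_mem _ (ht i) (Ideal.pow_le_self (Nat.succ_ne_zero N) (ht' i))
  have hli' : LinearIndependent p.ResidueField
      (fun i => (1 : p.ResidueField) ⊗ₜ[A] dHat k A (t' i)) := by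
    refine hN (fun i => dHat k A (t' i)) (fun i => ?_)
    rw [← dHat_sub]
    exact dHat_mem_pow_smul_top k A N _ (ht' i)
  have hspan' : Submodule.span p.ResidueField
      (Set.range fun i => (1 : p.ResidueField) ⊗ₜ[A] dHat k A (t' i)) = ⊤ :=
    hli'.span_eq_top_of_card_eq_finrank' (by rw [Fintype.card_fin])
  -- padding
  let x : Fin m → A := fun i => if h : i.val < r then t' ⟨i.val, h⟩ else 0
  have hx : ∀ i, x i ∈ maximalIdeal A := by
    intro i
    change (if h : i.val < r then t' ⟨i.val, h⟩ else 0) ∈ maximalIdeal A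
    split_ifs with h
    · exact ht'm _
    · exact Ideal.zero_mem _
  have hxt' : ∀ j : Fin r, x ⟨j.val, lt_of_lt_of_le j.2 hm⟩ = t' j := by
    intro j
    change (if h : j.val < r then t' ⟨j.val, h⟩ else 0) = t' j
    rw [dif_pos j.2]
  have hprimx : ∀ 𝔓 : Ideal A, 𝔓.IsPrime → Ideal.span (Set.range x) ≤ 𝔓 →
      𝔓 = maximalIdeal A := by
    intro 𝔓 h𝔓 hle
    apply hprim' 𝔓 h𝔓
    refine le_trans (Ideal.span_mono ?_) hle
    rintro _ ⟨j, rfl⟩
    exact ⟨⟨j.val, lt_of_lt_of_le j.2 hm⟩, hxt' j⟩
  obtain ⟨a1, t1, hloc, hfin, hX⟩ := exists_algebra_of_family k A m x hx hprimx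
  refine ⟨a1, t1, hloc, hfin, ?_⟩
  -- unramified at p
  change (⟨p, inferInstance⟩ : PrimeSpectrum A) ∈ Algebra.unramifiedLocus
    (MvPowerSeries (Fin m) k) A
  rw [Algebra.unramifiedLocus_eq_compl_support, Set.mem_compl_iff,
    Module.mem_support_iff_nontrivial_residueField_tensorProduct, not_nontrivial_iff_subsingleton]
  have hsurj : Function.Surjective (LinearMap.baseChange p.ResidueField (piHat k m A)) := by
    rw [LinearMap.baseChange_eq_ltensor]
    exact LinearMap.lTensor_surjective _ (piHat_surjective k m A)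
  have hzero : ∀ z, LinearMap.baseChange p.ResidueField (piHat k m A) z = 0 := by
    intro z
    have hz : z ∈ Submodule.span p.ResidueField
        (Set.range fun i => (1 : p.ResidueField) ⊗ₜ[A] dHat k A (t' i)) := by
      rw [hspan']; trivial
    induction hz using Submodule.span_induction with
    | mem w hw =>
      obtain ⟨j, rfl⟩ := hw
      rw [LinearMap.baseChange_tmul]
      have h1 : dHat k A (t' j) = dHatT k m A ⟨j.val, lt_of_lt_of_le j.2 hm⟩ := by
        unfold dHat dHatT
        rw [hX, hxt']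
      rw [h1, piHat_dHatT, TensorProduct.tmul_zero]
    | zero => rw [map_zero]
    | add x y _ _ hx hy => rw [map_add, hx, hy, add_zero]
    | smul c x _ hx => rw [map_smul, hx, smul_zero]
  refine ⟨fun a b => ?_⟩
  obtain ⟨a', rfl⟩ := hsurj a
  obtain ⟨b', rfl⟩ := hsurj b
  rw [hzero, hzero]

end Main

end Groth.Agent.Lib.Helper88.OmegaHat
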