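import Mathlib
import Groth.Agent.Lib.Helper88.OmegaHat.Unramified
import Groth.Agent.Lib.Helper88.OmegaHat.GenericRank
import Groth.Agent.Lib.Helper85.RegularGens

/-!
# Upper bound for the fibre rank of `Ω̂_{A/k}` at a regular prime, char. `0` (helper88)

`A` complete Noetherian local `k`-algebra, `char k = 0`, residue field finite over `k`,
`A_P` regular.  Then `dim_{κ(P)} κ(P) ⊗ Ω̂_{A/k} ≤ dim A_P + dim A/P`.
-/

set_option autoImplicit false
set_option linter.unusedSectionVars false

universe u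

namespace Groth.Agent.Lib.Helper88.OmegaHat

open MvPowerSeries TensorProduct IsLocalRing

section Closure

variable {R : Type u} [CommRing R] [IsLocalRing R] [IsNoetherianRing R]
  (M : Type u) [AddCommGroup M] [Module R M]

/-- closedness of submodules of a finite completed module, in the form we need. -/
theorem smul_mem_of_forall_mem_sup [Module.Finite R (AdicCompletion (maximalIdeal R) M)]
    (T : Submodule R (AdicCompletion (maximalIdeal R) M)) (c : R)
    (h : ∀ (ω : M) (n : ℕ), c • AdicCompletion.of (maximalIdeal R) M ω ∈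
      T ⊔ (maximalIdeal R ^ n • ⊤ : Submodule R (AdicCompletion (maximalIdeal R) M)))
    (y : AdicCompletion (maximalIdeal R) M) : c • y ∈ T := by
  have hmfg : (maximalIdeal R).FG := (isNoetherianRing_iff_ideal_fg R).mp inferInstance _
  have hH : IsHausdorff (maximalIdeal R) (AdicCompletion (maximalIdeal R) M ⧸ T) := inferInstance
  have h0 : T.mkQ (c • y) = 0 := by
    apply hH.haus
    intro n
    rw [SModEq.zero]
    obtain ⟨ω, hω⟩ := exists_of_sub_mem (maximalIdeal R) M hmfg y n
    obtain ⟨u, hu, v, hv, huv⟩ := Submodule.mem_sup.mp (h ω n)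
    have h1 : T.mkQ (c • y) =
        T.mkQ (c • (y - AdicCompletion.of (maximalIdeal R) M ω) + v) := by
      have h2 : c • y = c • (y - AdicCompletion.of (maximalIdeal R) M ω) + (u + v) := by
        rw [huv, smul_sub]
        abel
      have h3 : T.mkQ u = 0 := by
        rw [Submodule.mkQ_apply, Submodule.Quotient.mk_eq_zero]
        exact hu
      rw [h2, map_add, map_add, map_add, h3, zero_add]
    rw [h1]
    have h3 : c • (y - AdicCompletion.of (maximalIdeal R) M ω) + v ∈
        (maximalIdeal R ^ n • ⊤ : Submodule R (AdicCompletion (maximalIdeal R) M)) :=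
      Submodule.add_mem _ (Submodule.smul_mem _ _ hω) hv
    have h4 := Submodule.mem_map_of_mem (f := T.mkQ) h3
    rwa [Submodule.map_smul'', Submodule.map_top, Submodule.range_mkQ] at h4
  rwa [Submodule.mkQ_apply, Submodule.Quotient.mk_eq_zero] at h0

end Closure

section Ker

variable (R A : Type u) [CommRing R] [CommRing A] [Algebra R A] (I : Ideal A)

/-- the kernel of `Ω[A⁄R] → Ω[(A⧸I)⁄R]` is `I Ω + D(I)`. -/
theorem exists_sub_D_mem_of_map_eq_zero (ω : Ω[A⁄R])
    (hω : KaehlerDifferential.map R R A (A ⧸ I) ω = 0) :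
    ∃ x ∈ I, ω - KaehlerDifferential.D R A x ∈ (I • ⊤ : Submodule A (Ω[A⁄R])) := by
  have hsurj : Function.Surjective (algebraMap A (A ⧸ I)) := Ideal.Quotient.mk_surjective
  have hex := KaehlerDifferential.exact_kerCotangentToTensor_mapBaseChange R A (A ⧸ I) hsurj
  have h1 : KaehlerDifferential.mapBaseChange R A (A ⧸ I) ((1 : A ⧸ I) ⊗ₜ[A] ω) = 0 := by
    rw [KaehlerDifferential.mapBaseChange_tmul, hω, smul_zero]
  obtain ⟨c, hc⟩ := (hex _).mp h1
  obtain ⟨⟨x, hx⟩, rfl⟩ := Ideal.toCotangent_surjective _ c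
  have hxI : x ∈ I := by
    have : x ∈ RingHom.ker (Ideal.Quotient.mk I) := hx
    rwa [Ideal.mk_ker] at this
  refine ⟨x, hxI, ?_⟩
  rw [KaehlerDifferential.kerCotangentToTensor_toCotangent] at hc
  have h2 : (1 : A ⧸ I) ⊗ₜ[A] (ω - KaehlerDifferential.D R A x) = 0 := by
    rw [TensorProduct.tmul_sub, ← hc, sub_self]
  have h3 := congrArg (TensorProduct.quotTensorEquivQuotSMul (Ω[A⁄R]) I) h2
  rw [map_zero] at h3
  have h4 : (TensorProduct.quotTensorEquivQuotSMul (Ω[A⁄R]) I)
      ((1 : A ⧸ I) ⊗ₜ[A] (ω - KaehlerDifferential.D R A x)) =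
      Submodule.Quotient.mk (ω - KaehlerDifferential.D R A x) := by
    have : (1 : A ⧸ I) = Ideal.Quotient.mk I 1 := rfl
    rw [this, TensorProduct.quotTensorEquivQuotSMul_mk_tmul, one_smul]
  rw [h4, Submodule.Quotient.mk_eq_zero] at h3
  exact h3

end Ker

section Gen

variable {A : Type u} [CommRing A] (P : Ideal A) [P.IsPrime]
  (N : Type u) [AddCommGroup N] [Module A N]

theorem one_tmul_smul_eq_zero (a : A) (ha : a ∈ P) (y : N) :
    (1 : P.ResidueField) ⊗ₜ[A] (a • y) = 0 := by
  rw [TensorProduct.tmul_smul, TensorProduct.smul_tmul', Algebra.smul_def, mul_one,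
    (Ideal.algebraMap_residueField_eq_zero).mpr ha, TensorProduct.zero_tmul]

theorem one_tmul_smul (a : A) (y : N) :
    (1 : P.ResidueField) ⊗ₜ[A] (a • y) =
      algebraMap A P.ResidueField a • ((1 : P.ResidueField) ⊗ₜ[A] y) := by
  rw [TensorProduct.tmul_smul, algebraMap_smul]

/-- if `P A_P` is generated by elements whose differentials lie in `W`, all differentials of
elements of `P` lie in `W` -/
theorem one_tmul_D_mem_of_generators (δ : A → N)
    (hadd : ∀ a b, δ (a + b) = δ a + δ b) (hmul : ∀ a b, δ (a * b) = a • δ b + b • δ a)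
    (W : Submodule P.ResidueField (P.ResidueField ⊗[A] N)) (s : Set A) (hsP : s ⊆ P)
    (hs : (Ideal.span s).map (algebraMap A (Localization.AtPrime P)) =
      maximalIdeal (Localization.AtPrime P))
    (hsW : ∀ x ∈ s, (1 : P.ResidueField) ⊗ₜ[A] δ x ∈ W) (x : A) (hx : x ∈ P) :
    (1 : P.ResidueField) ⊗ₜ[A] δ x ∈ W := by
  let J : Ideal A :=
    { carrier := {a | a ∈ P ∧ (1 : P.ResidueField) ⊗ₜ[A] δ a ∈ W}
      add_mem' := by
        rintro a b ⟨ha, ha'⟩ ⟨hb, hb'⟩
        refine ⟨P.add_mem ha hb, ?_⟩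
        rw [hadd, TensorProduct.tmul_add]
        exact W.add_mem ha' hb'
      zero_mem' := by
        refine ⟨P.zero_mem, ?_⟩
        have h0 : δ 0 = 0 := by
          have := hadd 0 0
          rw [add_zero] at this
          exact left_eq_add.mp this
        rw [h0, TensorProduct.tmul_zero]
        exact W.zero_mem
      smul_mem' := by
        rintro c a ⟨ha, ha'⟩
        refine ⟨P.mul_mem_left c ha, ?_⟩
        rw [smul_eq_mul, hmul, TensorProduct.tmul_add,
          one_tmul_smul_eq_zero P N a ha, add_zero, one_tmul_smul]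
        exact W.smul_mem _ ha' }
  have hJ : Ideal.span s ≤ J := by
    rw [Ideal.span_le]
    intro y hy
    exact ⟨hsP hy, hsW y hy⟩
  have h1 : algebraMap A (Localization.AtPrime P) x ∈
      (Ideal.span s).map (algebraMap A (Localization.AtPrime P)) := by
    rw [hs, ← Localization.AtPrime.map_eq_maximalIdeal]
    exact Ideal.mem_map_of_mem _ hx
  obtain ⟨m, hm, hmx⟩ :=
    (IsLocalization.algebraMap_mem_map_algebraMap_iff P.primeCompl (Localization.AtPrime P)
      (Ideal.span s) x).mp h1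
  obtain ⟨-, h2⟩ : m * x ∈ J := hJ hmx
  rw [hmul, TensorProduct.tmul_add, one_tmul_smul_eq_zero P N x hx, add_zero,
    one_tmul_smul] at h2
  have hne : algebraMap A P.ResidueField m ≠ 0 := by
    rw [Ne, Ideal.algebraMap_residueField_eq_zero]
    exact hm
  exact (Submodule.smul_mem_iff W hne).mp h2

end Gen

section Sep

variable (k : Type u) [Field k] [CharZero k] (r : ℕ) (A : Type u) [CommRing A] [IsDomain A]
  [Algebra (MvPowerSeries (Fin r) k) A] [Module.Finite (MvPowerSeries (Fin r) k) A]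
  [Algebra (FractionRing (MvPowerSeries (Fin r) k)) (FractionRing A)]
  [IsScalarTower (MvPowerSeries (Fin r) k) (FractionRing (MvPowerSeries (Fin r) k)) (FractionRing A)]

local notation "P₀" => MvPowerSeries (Fin r) k

/-- in characteristic zero every element of a finite domain over `k[[T]]` is a root of a
polynomial which is separable over the fraction field. -/
theorem hsep_of_charZero (a : A) :
    ∃ Q : Polynomial P₀, Polynomial.aeval a Q = 0 ∧
      (Q.map (algebraMap P₀ (FractionRing P₀))).Separable := by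
  have hdomP : IsDomain P₀ := NoZeroDivisors.to_isDomain _
  have hchar0 : CharZero (FractionRing P₀) :=
    charZero_of_injective_algebraMap (algebraMap k (FractionRing P₀)).injective
  have hintA : IsIntegral P₀ a := Algebra.IsIntegral.isIntegral a
  have hint' : IsIntegral P₀ (algebraMap A (FractionRing A) a) :=
    hintA.map (IsScalarTower.toAlgHom P₀ A (FractionRing A))
  have hint : IsIntegral (FractionRing P₀) (algebraMap A (FractionRing A) a) :=
    hint'.tower_top
  have hmsep : (minpoly (FractionRing P₀) (algebraMap A (FractionRing A) a)).Separable :=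
    (minpoly.irreducible hint).separable
  obtain ⟨b, hb, hQ⟩ := IsLocalization.integerNormalization_spec (nonZeroDivisors P₀)
    (minpoly (FractionRing P₀) (algebraMap A (FractionRing A) a))
  refine ⟨IsLocalization.integerNormalization (nonZeroDivisors P₀)
    (minpoly (FractionRing P₀) (algebraMap A (FractionRing A) a)), ?_, ?_⟩
  · apply IsFractionRing.injective A (FractionRing A)
    rw [map_zero, ← Polynomial.aeval_algebraMap_apply]
    exact IsLocalization.integerNormalization_aeval_eq_zero (nonZeroDivisors P₀) _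
      (minpoly.aeval _ _)
  · rw [hQ, ← algebraMap_smul (FractionRing P₀) b, Polynomial.smul_eq_C_mul]
    refine Polynomial.Separable.unit_mul (Polynomial.isUnit_C.mpr ?_) hmsep
    rw [isUnit_iff_ne_zero]
    exact IsFractionRing.to_map_ne_zero_of_mem_nonZeroDivisors hb

end Sep

section Pull

variable (k A : Type u) [Field k] [CommRing A] [IsLocalRing A] [IsNoetherianRing A] [Algebra k A]
  (P : Ideal A) [P.IsPrime] (d : ℕ) [IsLocalRing (A ⧸ P)]
  [Algebra (MvPowerSeries (Fin d) k) (A ⧸ P)] [IsScalarTower k (MvPowerSeries (Fin d) k) (A ⧸ P)]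
  [Module.Finite (MvPowerSeries (Fin d) k) (A ⧸ P)]
  [IsLocalHom (algebraMap (MvPowerSeries (Fin d) k) (A ⧸ P))]

local notation "P₀" => MvPowerSeries (Fin d) k

theorem exists_smul_sub_D_mem (c₀ : A)
    (hkill : ∀ ω' : Ω[(A ⧸ P)⁄P₀], (Ideal.Quotient.mk P c₀) • ω' = 0)
    (t : Fin d → A) (ht : ∀ j, Ideal.Quotient.mk P (t j) = algebraMap P₀ (A ⧸ P) (X j))
    (ω : Ω[A⁄k]) (n : ℕ) :
    ∃ x ∈ P, c₀ • ω - KaehlerDifferential.D k A x ∈
      Submodule.span A (Set.range fun j => KaehlerDifferential.D k A (t j)) ⊔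
        (maximalIdeal A ^ n • ⊤ : Submodule A (Ω[A⁄k])) ⊔ (P • ⊤ : Submodule A (Ω[A⁄k])) := by
  classical
  have hfsurj : Function.Surjective (KaehlerDifferential.map k k A (A ⧸ P)) :=
    KaehlerDifferential.map_surjective_of_surjective k k A (A ⧸ P) Ideal.Quotient.mk_surjective
  have hfsmul : ∀ (a : A) (η : Ω[A⁄k]), KaehlerDifferential.map k k A (A ⧸ P) (a • η) =
      (Ideal.Quotient.mk P a) • KaehlerDifferential.map k k A (A ⧸ P) η := by
    intro a η
    rw [map_smul]
    rfl
  have h1 : KaehlerDifferential.map k P₀ (A ⧸ P) (A ⧸ P)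
      (KaehlerDifferential.map k k A (A ⧸ P) (c₀ • ω)) = 0 := by
    rw [hfsmul, map_smul, hkill]
  obtain ⟨z, hz⟩ := (KaehlerDifferential.exact_mapBaseChange_map k P₀ (A ⧸ P) _).mp h1
  have h2 : KaehlerDifferential.map k k A (A ⧸ P) (c₀ • ω) ∈ Nsub k d (A ⧸ P) ⊔
      (maximalIdeal (A ⧸ P) ^ n • ⊤ : Submodule (A ⧸ P) (Ω[(A ⧸ P)⁄k])) := by
    rw [← hz]
    exact mapBaseChange_mem k d (A ⧸ P) n z
  have hlift1 : ∀ u' ∈ Nsub k d (A ⧸ P),
      ∃ u ∈ Submodule.span A (Set.range fun j => KaehlerDifferential.D k A (t j)),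
      KaehlerDifferential.map k k A (A ⧸ P) u = u' := by
    intro u' hu'
    unfold Nsub at hu'
    induction hu' using Submodule.span_induction with
    | mem x hx =>
      obtain ⟨j, rfl⟩ := hx
      refine ⟨KaehlerDifferential.D k A (t j), Submodule.subset_span ⟨j, rfl⟩, ?_⟩
      rw [KaehlerDifferential.map_D]
      change KaehlerDifferential.D k (A ⧸ P) (Ideal.Quotient.mk P (t j)) =
        KaehlerDifferential.D k (A ⧸ P) (algebraMap P₀ (A ⧸ P) (X j))
      rw [ht j]
    | zero => exact ⟨0, Submodule.zero_mem _, map_zero _⟩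
    | add x y _ _ hx hy =>
      obtain ⟨a, ha, rfl⟩ := hx
      obtain ⟨b, hb, rfl⟩ := hy
      exact ⟨a + b, Submodule.add_mem _ ha hb, map_add _ _ _⟩
    | smul c x _ hx =>
      obtain ⟨a, ha, rfl⟩ := hx
      obtain ⟨c, rfl⟩ := Ideal.Quotient.mk_surjective c
      exact ⟨c • a, Submodule.smul_mem _ _ ha, hfsmul c a⟩
  have hmax : (maximalIdeal A).map (algebraMap A (A ⧸ P)) = maximalIdeal (A ⧸ P) :=
    Groth.Agent.Lib.Helper85.maximalIdeal_map_of_surjective _ Ideal.Quotient.mk_surjective
  have hlift2 : ∀ v' ∈ (maximalIdeal (A ⧸ P) ^ n • ⊤ : Submodule (A ⧸ P) (Ω[(A ⧸ P)⁄k])),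
      ∃ v ∈ (maximalIdeal A ^ n • ⊤ : Submodule A (Ω[A⁄k])),
      KaehlerDifferential.map k k A (A ⧸ P) v = v' := by
    intro v' hv'
    refine Submodule.smul_induction_on hv' ?_ ?_
    · intro r hr m _
      rw [← hmax, ← Ideal.map_pow] at hr
      obtain ⟨a, ha, rfl⟩ := (Ideal.mem_map_iff_of_surjective _ Ideal.Quotient.mk_surjective).mp hr
      obtain ⟨m₀, rfl⟩ := hfsurj m
      exact ⟨a • m₀, Submodule.smul_mem_smul ha trivial, hfsmul a m₀⟩
    · intro x y hx hy
      obtain ⟨a, ha, rfl⟩ := hx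
      obtain ⟨b, hb, rfl⟩ := hy
      exact ⟨a + b, Submodule.add_mem _ ha hb, map_add _ _ _⟩
  obtain ⟨u', hu', v', hv', huv⟩ := Submodule.mem_sup.mp h2
  have hu := hlift1 u' hu'
  have hv := hlift2 v' hv'
  obtain ⟨u, hu, rfl⟩ := hu
  obtain ⟨v, hv, rfl⟩ := hv
  have h3 : KaehlerDifferential.map k k A (A ⧸ P) (c₀ • ω - u - v) = 0 := by
    rw [map_sub, map_sub, ← huv]
    abel
  obtain ⟨x, hx, hx'⟩ := exists_sub_D_mem_of_map_eq_zero k A P _ h3
  refine ⟨x, hx, ?_⟩
  have h4 : c₀ • ω - KaehlerDifferential.D k A x =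
      (u + v) + (c₀ • ω - u - v - KaehlerDifferential.D k A x) := by abel
  rw [h4]
  exact Submodule.add_mem _ (Submodule.mem_sup_left (Submodule.add_mem _
    (Submodule.mem_sup_left hu) (Submodule.mem_sup_right hv))) (Submodule.mem_sup_right hx')

end Pull

section Main

variable (k A : Type u) [Field k] [CharZero k] [CommRing A] [IsLocalRing A] [IsNoetherianRing A]
  [Algebra k A] [IsAdicComplete (maximalIdeal A) A] [Module.Finite k (ResidueField A)]

/-- generators of `P A_P` coming from `P`. -/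
theorem exists_generators_atPrime (P : Ideal A) [P.IsPrime]
    [IsRegularLocalRing (Localization.AtPrime P)] (h : ℕ)
    (hh : ringKrullDim (Localization.AtPrime P) = h) :
    ∃ x : Fin h → A, (∀ l, x l ∈ P) ∧
      (Ideal.span (Set.range x)).map (algebraMap A (Localization.AtPrime P)) =
        maximalIdeal (Localization.AtPrime P) := by
  have hspan : ((maximalIdeal (Localization.AtPrime P)).spanFinrank : WithBot ℕ∞) =
      ringKrullDim (Localization.AtPrime P) :=
    IsRegularLocalRing.spanFinrank_maximalIdeal (R := Localization.AtPrime P)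
  have hsf : (maximalIdeal (Localization.AtPrime P)).spanFinrank = h := by
    rw [hh] at hspan
    exact_mod_cast hspan
  have hfg : (maximalIdeal (Localization.AtPrime P)).FG :=
    (isNoetherianRing_iff_ideal_fg _).mp inferInstance _
  obtain ⟨b, hb⟩ := Groth.Agent.Lib.Helper85.exists_fin_span_range_eq
    (maximalIdeal (Localization.AtPrime P)) hfg hsf
  have hbx : ∀ l, ∃ (x : A) (s : P.primeCompl), x ∈ P ∧
      b l = IsLocalization.mk' (Localization.AtPrime P) x s := by
    intro l
    obtain ⟨x, s, hxs⟩ := IsLocalization.exists_mk'_eq P.primeCompl (b l)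
    refine ⟨x, s, ?_, hxs.symm⟩
    have hbl : b l ∈ maximalIdeal (Localization.AtPrime P) := by
      rw [← hb]
      exact Ideal.subset_span ⟨l, rfl⟩
    rw [← hxs, IsLocalization.AtPrime.mk'_mem_maximal_iff (Localization.AtPrime P) P] at hbl
    exact hbl
  choose x s hxP hxs using hbx
  refine ⟨x, hxP, ?_⟩
  apply le_antisymm
  · rw [Ideal.map_le_iff_le_comap, Ideal.span_le]
    rintro _ ⟨l, rfl⟩
    change algebraMap A (Localization.AtPrime P) (x l) ∈ maximalIdeal (Localization.AtPrime P)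
    rw [← Localization.AtPrime.map_eq_maximalIdeal]
    exact Ideal.mem_map_of_mem _ (hxP l)
  · rw [← hb, Ideal.span_le]
    rintro _ ⟨l, rfl⟩
    rw [hxs l, IsLocalization.mk'_eq_mul_mk'_one]
    exact Ideal.mul_mem_right _ _ (Ideal.mem_map_of_mem _ (Ideal.subset_span ⟨l, rfl⟩))

theorem finrank_fibre_le_of_charZero (P : Ideal A) [P.IsPrime]
    [IsRegularLocalRing (Localization.AtPrime P)] (h d : ℕ)
    (hh : ringKrullDim (Localization.AtPrime P) = h) (hd : ringKrullDim (A ⧸ P) = d) :
    Module.finrank P.ResidueField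
      (P.ResidueField ⊗[A] AdicCompletion (maximalIdeal A) (Ω[A⁄k])) ≤ h + d := by
  classical
  have hfinΩ := finite_omegaHat' k A
  obtain ⟨x, hxP, hgen⟩ := exists_generators_atPrime A P h hh
  -- the quotient `A ⧸ P`
  have hne : P ≠ ⊤ := Ideal.IsPrime.ne_top inferInstance
  have hloc : IsLocalRing (A ⧸ P) := Groth.Agent.Lib.Helper85.isLocalRing_quotient P hne
  have hmax : (maximalIdeal A).map (algebraMap A (A ⧸ P)) = maximalIdeal (A ⧸ P) :=
    Groth.Agent.Lib.Helper85.maximalIdeal_map_of_surjective _ Ideal.Quotient.mk_surjective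
  have hcompl : IsAdicComplete (maximalIdeal (A ⧸ P)) (A ⧸ P) := by
    rw [← hmax]
    exact Groth.Agent.Lib.Helper44.isAdicComplete_quotient_ring (maximalIdeal A) P
  have hfin : Module.Finite k (ResidueField (A ⧸ P)) := finite_residueField_quotient k A P
  obtain ⟨n, y, hn, hy, hprim⟩ := Groth.Agent.Lib.Helper48.exists_sop (A ⧸ P)
  have hnd : n = d := by
    have h1 := hn
    rw [hd] at h1
    exact_mod_cast h1
  obtain ⟨φ, hφX, hφinj, hφfin⟩ := exists_finite_injective_eval k (A ⧸ P) n y hy hprim hn.le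
  let _ : Algebra (MvPowerSeries (Fin n) k) (A ⧸ P) := φ.toRingHom.toAlgebra
  have : IsScalarTower k (MvPowerSeries (Fin n) k) (A ⧸ P) :=
    IsScalarTower.of_algebraMap_eq (fun c => (φ.commutes c).symm)
  have : Module.Finite (MvPowerSeries (Fin n) k) (A ⧸ P) := hφfin
  have hinj : Function.Injective (algebraMap (MvPowerSeries (Fin n) k) (A ⧸ P)) := hφinj
  have hfaith : FaithfulSMul (MvPowerSeries (Fin n) k) (A ⧸ P) :=
    (faithfulSMul_iff_algebraMap_injective _ _).mpr hinj
  have hdomP : IsDomain (MvPowerSeries (Fin n) k) := NoZeroDivisors.to_isDomain _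
  have hfaithK : FaithfulSMul (MvPowerSeries (Fin n) k) (FractionRing (A ⧸ P)) := by
    rw [faithfulSMul_iff_algebraMap_injective,
      IsScalarTower.algebraMap_eq (MvPowerSeries (Fin n) k) (A ⧸ P) (FractionRing (A ⧸ P))]
    exact (IsFractionRing.injective (A ⧸ P) (FractionRing (A ⧸ P))).comp hinj
  let _ : Algebra (FractionRing (MvPowerSeries (Fin n) k)) (FractionRing (A ⧸ P)) :=
    FractionRing.liftAlgebra (MvPowerSeries (Fin n) k) (FractionRing (A ⧸ P))
  have : IsScalarTower (MvPowerSeries (Fin n) k) (FractionRing (MvPowerSeries (Fin n) k))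
      (FractionRing (A ⧸ P)) :=
    FractionRing.isScalarTower_liftAlgebra (MvPowerSeries (Fin n) k) (FractionRing (A ⧸ P))
  have hint : Algebra.IsIntegral (MvPowerSeries (Fin n) k) (A ⧸ P) := inferInstance
  have hmaxc : ((maximalIdeal (A ⧸ P)).comap
      (algebraMap (MvPowerSeries (Fin n) k) (A ⧸ P))).IsMaximal :=
    Ideal.isMaximal_comap_of_isIntegral_of_isMaximal (maximalIdeal (A ⧸ P))
  have hlocal : IsLocalHom (algebraMap (MvPowerSeries (Fin n) k) (A ⧸ P)) := by
    refine ((local_hom_TFAE (algebraMap (MvPowerSeries (Fin n) k) (A ⧸ P))).out 3 0).mp ?_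
    rw [IsLocalRing.eq_maximalIdeal hmaxc]
  have hsep := hsep_of_charZero k n (A ⧸ P)
  obtain ⟨c₀', hc₀', hkill⟩ := exists_ne_zero_smul_eq_zero k n (A ⧸ P) hsep
  obtain ⟨c₀, rfl⟩ := Ideal.Quotient.mk_surjective c₀'
  have hc₀P : c₀ ∉ P := fun hmem => hc₀' (Ideal.Quotient.eq_zero_iff_mem.mpr hmem)
  choose t ht using fun j : Fin n =>
    Ideal.Quotient.mk_surjective (algebraMap (MvPowerSeries (Fin n) k) (A ⧸ P) (X j))
  -- the spanning family
  let g : Fin n ⊕ Fin h → P.ResidueField ⊗[A] AdicCompletion (maximalIdeal A) (Ω[A⁄k]) :=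
    Sum.elim (fun j => (1 : P.ResidueField) ⊗ₜ[A] dHat k A (t j))
      (fun l => (1 : P.ResidueField) ⊗ₜ[A] dHat k A (x l))
  let W : Submodule P.ResidueField
      (P.ResidueField ⊗[A] AdicCompletion (maximalIdeal A) (Ω[A⁄k])) :=
    Submodule.span P.ResidueField (Set.range g)
  let T : Submodule A (AdicCompletion (maximalIdeal A) (Ω[A⁄k])) :=
    (W.restrictScalars A).comap
      (TensorProduct.mk A P.ResidueField (AdicCompletion (maximalIdeal A) (Ω[A⁄k])) 1)
  have hT : ∀ y, y ∈ T ↔ (1 : P.ResidueField) ⊗ₜ[A] y ∈ W := fun y => Iff.rfl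
  have hPT : (P • ⊤ : Submodule A (AdicCompletion (maximalIdeal A) (Ω[A⁄k]))) ≤ T := by
    rw [Submodule.smul_le]
    intro a ha y _
    rw [hT, one_tmul_smul_eq_zero P _ a ha y]
    exact W.zero_mem
  have htT : ∀ j, dHat k A (t j) ∈ T := fun j =>
    (hT _).mpr (Submodule.subset_span ⟨Sum.inl j, rfl⟩)
  have hxT : ∀ a ∈ P, dHat k A a ∈ T := by
    intro a ha
    rw [hT]
    refine one_tmul_D_mem_of_generators P _ (dHat k A) (dHat_add k A) (dHat_mul k A) W
      (Set.range x) ?_ hgen ?_ a ha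
    · rintro _ ⟨l, rfl⟩
      exact hxP l
    · rintro _ ⟨l, rfl⟩
      exact Submodule.subset_span ⟨Sum.inr l, rfl⟩
  -- the approximation property
  have happrox : ∀ (ω : Ω[A⁄k]) (m : ℕ), c₀ • AdicCompletion.of (maximalIdeal A) (Ω[A⁄k]) ω ∈
      T ⊔ (maximalIdeal A ^ m • ⊤ :
        Submodule A (AdicCompletion (maximalIdeal A) (Ω[A⁄k]))) := by
    intro ω m
    obtain ⟨a, haP, ha⟩ := exists_smul_sub_D_mem k A P n c₀ hkill t ht ω m
    have hle : Submodule.span A (Set.range fun j => KaehlerDifferential.D k A (t j)) ⊔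
        (maximalIdeal A ^ m • ⊤ : Submodule A (Ω[A⁄k])) ⊔ (P • ⊤ : Submodule A (Ω[A⁄k])) ≤
        (T ⊔ (maximalIdeal A ^ m • ⊤ :
          Submodule A (AdicCompletion (maximalIdeal A) (Ω[A⁄k])))).comap
          (AdicCompletion.of (maximalIdeal A) (Ω[A⁄k])) := by
      refine sup_le (sup_le ?_ ?_) ?_
      · rw [Submodule.span_le]
        rintro _ ⟨j, rfl⟩
        exact Submodule.mem_sup_left (htT j)
      · intro η hη
        exact Submodule.mem_sup_right (of_mem_pow_smul_top (maximalIdeal A) (Ω[A⁄k]) m η hη)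
      · rw [Submodule.smul_le]
        intro b hb η _
        rw [Submodule.mem_comap, map_smul]
        exact Submodule.mem_sup_left (hPT (Submodule.smul_mem_smul hb trivial))
    have h1 := hle ha
    rw [Submodule.mem_comap, map_sub, map_smul] at h1
    have h2 : c₀ • AdicCompletion.of (maximalIdeal A) (Ω[A⁄k]) ω =
        (c₀ • AdicCompletion.of (maximalIdeal A) (Ω[A⁄k]) ω -
          AdicCompletion.of (maximalIdeal A) (Ω[A⁄k]) (KaehlerDifferential.D k A a)) +
        dHat k A a := by
      unfold dHat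
      abel
    rw [h2]
    exact Submodule.add_mem _ h1 (Submodule.mem_sup_left (hxT a haP))
  have hall : ∀ y : AdicCompletion (maximalIdeal A) (Ω[A⁄k]), c₀ • y ∈ T :=
    smul_mem_of_forall_mem_sup (Ω[A⁄k]) T c₀ happrox
  -- conclusion
  have hc₀ne : algebraMap A P.ResidueField c₀ ≠ 0 := by
    rw [Ne, Ideal.algebraMap_residueField_eq_zero]
    exact hc₀P
  have hWtop : W = ⊤ := by
    rw [eq_top_iff]
    rintro v -
    induction v using TensorProduct.induction_on with
    | zero => exact W.zero_mem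
    | add v w hv hw => exact W.add_mem hv hw
    | tmul c y =>
      have h1 : (1 : P.ResidueField) ⊗ₜ[A] y ∈ W := by
        have h2 := (hT _).mp (hall y)
        rw [one_tmul_smul] at h2
        exact (Submodule.smul_mem_iff W hc₀ne).mp h2
      have h3 : c ⊗ₜ[A] y = c • ((1 : P.ResidueField) ⊗ₜ[A] y) := by
        rw [TensorProduct.smul_tmul', smul_eq_mul, mul_one]
      rw [h3]
      exact W.smul_mem _ h1
  have h1 := finrank_range_le_card (R := P.ResidueField) g
  rw [Set.finrank] at h1
  change Module.finrank P.ResidueField W ≤ _ at h1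
  rw [hWtop, finrank_top, Fintype.card_sum, Fintype.card_fin, Fintype.card_fin] at h1
  omega

end Main

end Groth.Agent.Lib.Helper88.OmegaHat
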