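import Mathlib

set_option autoImplicit false
universe u

namespace Groth.Agent.Lib.Helper88.OmegaHat

open MvPowerSeries

section CoeffDeriv

attribute [local instance 10000] Ring.toIntAlgebra

variable {σ : Type*} {k : Type*} [CommRing k]

/-- underlying function of `coeffDeriv` -/
noncomputable def coeffDerivFun (D : Derivation ℤ k k) (f : MvPowerSeries σ k) :
    MvPowerSeries σ k := fun m => D (coeff m f)

theorem coeff_coeffDerivFun (D : Derivation ℤ k k) (f : MvPowerSeries σ k) (m : σ →₀ ℕ) :
    coeff m (coeffDerivFun D f) = D (coeff m f) := rfl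

/-- coefficientwise extension of a derivation of `k` to `k[[σ]]` -/
noncomputable def coeffDeriv (D : Derivation ℤ k k) :
    Derivation ℤ (MvPowerSeries σ k) (MvPowerSeries σ k) :=
  Derivation.mk'
    (AddMonoidHom.toIntLinearMap
      { toFun := coeffDerivFun D
        map_zero' := by
          ext m
          rw [coeff_coeffDerivFun, map_zero, map_zero]
        map_add' := fun f g => by
          ext m
          rw [coeff_coeffDerivFun, map_add, map_add, map_add, coeff_coeffDerivFun,
            coeff_coeffDerivFun] })
    (fun f g => by
      classical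
      ext m
      change coeff m (coeffDerivFun D (f * g)) = coeff m (f • coeffDerivFun D g +
        g • coeffDerivFun D f)
      rw [map_add, smul_eq_mul, smul_eq_mul, mul_comm g, coeff_mul, coeff_mul, coeff_coeffDerivFun,
        coeff_mul, map_sum, ← Finset.sum_add_distrib]
      refine Finset.sum_congr rfl fun x _ => ?_
      rw [Derivation.leibniz, smul_eq_mul, smul_eq_mul, mul_comm (coeff x.2 g),
        coeff_coeffDerivFun, coeff_coeffDerivFun])

theorem coeff_coeffDeriv (D : Derivation ℤ k k) (f : MvPowerSeries σ k) (m : σ →₀ ℕ) :
    coeff m (coeffDeriv D f) = D (coeff m f) := rfl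

theorem coeffDeriv_C (D : Derivation ℤ k k) (c : k) :
    coeffDeriv D (C c : MvPowerSeries σ k) = C (D c) := by
  classical
  ext m
  rw [coeff_coeffDeriv, coeff_C, coeff_C]
  split_ifs
  · rfl
  · rw [map_zero]

end CoeffDeriv

end Groth.Agent.Lib.Helper88.OmegaHat
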