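import Mathlib
import Groth.Agent.Lib.Helper79.DSeqPrime
import Groth.Agent.Lib.Helper88.OmegaHat.FreeOfFibre

/-!
# `dim A_P + dim A/P ≤ dim A/q` when `A_P` is a domain and `q ⊆ P` is a minimal prime (helper88)
-/

set_option autoImplicit false
set_option linter.unusedSectionVars false

universe u

namespace Groth.Agent.Lib.Helper88.OmegaHat

open IsLocalRing

variable {A : Type u} [CommRing A] (P q : Ideal A) [P.IsPrime]

theorem ringKrullDim_atPrime_add_quotient_le [IsDomain (Localization.AtPrime P)]
    (hq : q ∈ minimalPrimes A) (hqP : q ≤ P) :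
    ringKrullDim (Localization.AtPrime P) + ringKrullDim (A ⧸ P) ≤ ringKrullDim (A ⧸ q) := by
  classical
  have hqprime : q.IsPrime := hq.1.1
  have hsurj : Function.Surjective (Ideal.Quotient.mk q) := Ideal.Quotient.mk_surjective
  have hker : RingHom.ker (Ideal.Quotient.mk q) = q := Ideal.mk_ker
  have hPprime : (P.map (Ideal.Quotient.mk q)).IsPrime :=
    Ideal.map_isPrime_of_surjective hsurj (by rw [hker]; exact hqP)
  -- every prime of `A_P` contracts to a prime containing `q`
  have hle : ∀ 𝔯 : Ideal (Localization.AtPrime P), q ≤ 𝔯.comap (algebraMap A _) := by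
    intro 𝔯 a ha
    rw [Ideal.mem_comap, (algebraMap_atPrime_eq_zero_iff P q hq hqP a).mpr ha]
    exact Ideal.zero_mem _
  have hcm : ∀ I : Ideal A, q ≤ I →
      (I.map (Ideal.Quotient.mk q)).comap (Ideal.Quotient.mk q) = I := by
    intro I hI
    rw [Ideal.comap_map_of_surjective _ hsurj, ← RingHom.ker_eq_comap_bot, hker, sup_eq_left]
    exact hI
  let x₀ : PrimeSpectrum (A ⧸ q) := ⟨P.map (Ideal.Quotient.mk q), hPprime⟩
  let f : PrimeSpectrum (Localization.AtPrime P) → Set.Iic x₀ := fun 𝔯 =>
    ⟨⟨(𝔯.asIdeal.comap (algebraMap A _)).map (Ideal.Quotient.mk q),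
      Ideal.map_isPrime_of_surjective hsurj (by rw [hker]; exact hle _)⟩, by
      change (𝔯.asIdeal.comap (algebraMap A _)).map (Ideal.Quotient.mk q) ≤
        P.map (Ideal.Quotient.mk q)
      refine Ideal.map_mono ?_
      have h1 := IsLocalRing.le_maximalIdeal 𝔯.2.ne_top
      have h2 := Ideal.comap_mono (f := algebraMap A (Localization.AtPrime P)) h1
      have h3 : (maximalIdeal (Localization.AtPrime P)).comap
          (algebraMap A (Localization.AtPrime P)) = P :=
        IsLocalization.AtPrime.under_maximalIdeal (Localization.AtPrime P) P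
      rwa [h3] at h2⟩
  have hf : StrictMono f := by
    intro 𝔯₁ 𝔯₂ h12
    have h1 : 𝔯₁.asIdeal.comap (algebraMap A (Localization.AtPrime P)) <
        𝔯₂.asIdeal.comap (algebraMap A (Localization.AtPrime P)) := by
      refine lt_of_le_of_ne (Ideal.comap_mono h12.le) ?_
      intro heq
      have h2 := congrArg (Ideal.map (algebraMap A (Localization.AtPrime P))) heq
      rw [IsLocalization.map_under P.primeCompl, IsLocalization.map_under P.primeCompl] at h2
      exact h12.ne (PrimeSpectrum.ext h2)
    change (𝔯₁.asIdeal.comap (algebraMap A _)).map (Ideal.Quotient.mk q) <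
      (𝔯₂.asIdeal.comap (algebraMap A _)).map (Ideal.Quotient.mk q)
    refine lt_of_le_of_ne (Ideal.map_mono h1.le) ?_
    intro heq
    have h3 := congrArg (Ideal.comap (Ideal.Quotient.mk q)) heq
    rw [hcm _ (hle _), hcm _ (hle _)] at h3
    exact h1.ne h3
  have h1 : ringKrullDim (Localization.AtPrime P) ≤
      ((P.map (Ideal.Quotient.mk q)).height : WithBot ℕ∞) := by
    have h2 := Order.krullDim_le_of_strictMono f hf
    rw [← Order.height_eq_krullDim_Iic] at h2
    have h3 : (P.map (Ideal.Quotient.mk q)).height = Order.height x₀ :=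
      PrimeSpectrum.height_eq_orderHeight x₀
    rw [h3]
    exact h2
  have h2 := Groth.Agent.Lib.Helper79.DSeqPrime.height_add_ringKrullDim_quotient_le
    (P.map (Ideal.Quotient.mk q))
  have h3 : ringKrullDim ((A ⧸ q) ⧸ P.map (Ideal.Quotient.mk q)) = ringKrullDim (A ⧸ P) :=
    ringKrullDim_eq_of_ringEquiv (DoubleQuot.quotQuotEquivQuotOfLE hqP)
  rw [h3] at h2
  exact le_trans (add_le_add_left h1 _) h2

end Groth.Agent.Lib.Helper88.OmegaHat
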